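/- Jordan's theorem on primitive groups containing a cycle of prime length. -/
import Mathlib.GroupTheory.GroupAction.Jordan
import Mathlib.GroupTheory.Sylow
import Mathlib.GroupTheory.Commutator.Basic
import Mathlib.Tactic

namespace CfsgLib.JordanPrime

open Equiv Equiv.Perm MulAction

variable {α : Type*} [Fintype α] [DecidableEq α]

/-- If `c` commutes with a cycle `g`, then `c ^ orderOf g` fixes the support of `g`. -/
theorem pow_orderOf_apply_of_commute {g c : Perm α} (hgc : g.IsCycle) (hc : Commute c g)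
    {x : α} (hx : g x ≠ x) : (c ^ orderOf g) x = x := by
  obtain ⟨i, hi⟩ : g.SameCycle x (c x) := by
    refine hgc.sameCycle hx ?_
    intro h
    have : c (g x) = g (c x) := Equiv.ext_iff.mp hc x
    rw [h] at this
    exact hx (c.injective this)
  have key : ∀ n : ℕ, (c ^ n) x = ((g ^ i) ^ n) x := by
    intro n
    induction n with
    | zero => simp
    | succ n ih =>
      have hcomm : Commute c ((g ^ i) ^ n) := (hc.zpow_right i).pow_right n
      rw [pow_succ' c, Perm.mul_apply, ih]
      have : c (((g ^ i) ^ n) x) = ((g ^ i) ^ n) (c x) := Equiv.ext_iff.mp hcomm x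
      rw [this, ← hi, pow_succ, Perm.mul_apply]
  rw [key]
  have : (g ^ i) ^ orderOf g = 1 := by
    rw [← zpow_natCast, ← zpow_mul, mul_comm, zpow_mul, zpow_natCast, pow_orderOf_eq_one, one_zpow]
  rw [this]; rfl

variable {G : Subgroup (Perm α)}

/-- The subgroup of elements of `G` fixing every fixed point of `g`. -/
def suppGroup (G : Subgroup (Perm α)) (g : Perm α) : Subgroup (Perm α) where
  carrier := {σ | σ ∈ G ∧ ∀ x, g x = x → σ x = x}
  mul_mem' := fun {a b} ha hb => ⟨G.mul_mem ha.1 hb.1, fun x hx => by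
    rw [Perm.mul_apply, hb.2 x hx, ha.2 x hx]⟩
  one_mem' := ⟨G.one_mem, fun x _ => rfl⟩
  inv_mem' := fun {a} ha => ⟨G.inv_mem ha.1, fun x hx => by
    conv_lhs => rw [← ha.2 x hx]
    exact Equiv.symm_apply_apply a x⟩

/-- In a group, two subgroups of prime order are conjugate when `p ^ 2` does not divide the
group order. -/
theorem exists_conj_zpowers {K : Type*} [Group K] [Finite K] {p : ℕ} [hp : Fact p.Prime]
    (hp2 : ¬ p ^ 2 ∣ Nat.card K) {a b : K} (ha : orderOf a = p) (hb : orderOf b = p) :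
    ∃ k : K, ∃ j : ℤ, k * a * k⁻¹ = b ^ j := by
  have hdvd : p ∣ Nat.card K := ha ▸ orderOf_dvd_natCard a
  have hfac : (Nat.card K).factorization p = 1 := by
    have h1 := (hp.out.dvd_iff_one_le_factorization Nat.card_pos.ne').mp hdvd
    have h2 : ¬ 2 ≤ (Nat.card K).factorization p := fun h =>
      hp2 ((hp.out.pow_dvd_iff_le_factorization Nat.card_pos.ne').mpr h)
    omega
  let P : Sylow p K := Sylow.ofCard (Subgroup.zpowers a) (by rw [Nat.card_zpowers, ha, hfac, pow_one])
  let Q : Sylow p K := Sylow.ofCard (Subgroup.zpowers b) (by rw [Nat.card_zpowers, hb, hfac, pow_one])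
  obtain ⟨k, hk⟩ := MulAction.exists_smul_eq K P Q
  refine ⟨k, ?_⟩
  have : k * a * k⁻¹ ∈ ((k • P : Sylow p K) : Subgroup K) := by
    rw [Sylow.coe_subgroup_smul]
    exact ⟨a, Subgroup.mem_zpowers a, by simp [MulAut.smul_def, MulAut.conj_apply]⟩
  rw [hk] at this
  obtain ⟨j, hj⟩ := Subgroup.mem_zpowers_iff.mp (show k * a * k⁻¹ ∈ Subgroup.zpowers b from this)
  exact ⟨j, hj.symm⟩

/-- If `G` is transitive on injections of the fixed-point set of an element `g ∈ G` of prime
order `p` and `p ^ 2` does not divide the order of the pointwise fixer of that set, then every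
permutation preserving that set is induced by an element normalising `⟨g⟩`. -/
theorem exists_normalizing_of_not_sq_dvd {p : ℕ} (hp : p.Prime) {g : Perm α}
    (hord : orderOf g = p) (hg : g ∈ G) (hp2 : ¬ p ^ 2 ∣ Nat.card (suppGroup G g))
    (htr : IsMultiplyPretransitive G α (g.supportᶜ : Finset α).card)
    (τ : Perm α) (hτ : ∀ x, g x = x → g (τ x) = τ x) :
    ∃ h ∈ G, (∀ x, g x = x → h x = τ x) ∧ ∃ j : ℤ, h * g * h⁻¹ = g ^ j := by
  haveI := Fact.mk hp
  set F := (g.supportᶜ : Finset α) with hF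
  have hmemF : ∀ x, x ∈ F ↔ g x = x := fun x => by simp [F]
  let e1 : Fin F.card ↪ α := F.equivFin.symm.toEmbedding.trans (Function.Embedding.subtype _)
  let e2 : Fin F.card ↪ α := e1.trans τ.toEmbedding
  haveI : IsPretransitive G (Fin F.card ↪ α) := htr
  obtain ⟨⟨u, hu⟩, hue⟩ := MulAction.exists_smul_eq G e1 e2
  have hu' : ∀ x, g x = x → u x = τ x := by
    intro x hx
    have h0 := DFunLike.congr_fun hue (F.equivFin ⟨x, (hmemF x).mpr hx⟩)
    have e : e1 (F.equivFin ⟨x, (hmemF x).mpr hx⟩) = x := by simp [e1]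
    have e' : e2 (F.equivFin ⟨x, (hmemF x).mpr hx⟩) = τ x := by
      simp only [e2, Function.Embedding.trans_apply, e]; rfl
    rw [Function.Embedding.smul_apply, e, e'] at h0
    exact h0
  -- `τ`, hence `u⁻¹`, preserves the fixed-point set
  have hinv : ∀ x, g x = x → g (u⁻¹ x) = u⁻¹ x := by
    intro x hx
    have hmaps : Set.MapsTo (fun y => u y) (F : Set α) (F : Set α) := by
      intro y hy
      have hy' := (hmemF y).mp hy
      simp only [Finset.mem_coe, hmemF]
      rw [hu' y hy']; exact hτ y hy'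
    have hbij := (Set.Finite.injOn_iff_bijOn_of_mapsTo F.finite_toSet hmaps).mp u.injective.injOn
    obtain ⟨y, hy, hyx⟩ := hbij.surjOn ((Finset.mem_coe).mpr ((hmemF x).mpr hx))
    have : u⁻¹ x = y := by rw [← hyx]; exact Equiv.symm_apply_apply u y
    rw [this]; exact (hmemF y).mp hy
  let K := suppGroup G g
  have hgK : g ∈ K := ⟨hg, fun x hx => hx⟩
  have hugK : u * g * u⁻¹ ∈ K := ⟨G.mul_mem (G.mul_mem hu hg) (G.inv_mem hu), fun x hx => by
    rw [Perm.mul_apply, Perm.mul_apply, hinv x hx]
    exact Equiv.apply_symm_apply u x⟩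
  obtain ⟨k, j, hkj⟩ := exists_conj_zpowers (p := p) hp2 (a := (⟨u * g * u⁻¹, hugK⟩ : K))
    (b := ⟨g, hgK⟩) (by rw [Subgroup.orderOf_mk, ← hord]; exact orderOf_injective (MulAut.conj u).toMonoidHom (MulAut.conj u).injective g)
    (by rw [Subgroup.orderOf_mk, hord])
  refine ⟨(k : Perm α) * u, G.mul_mem k.2.1 hu, fun x hx => ?_, j, ?_⟩
  · rw [Perm.mul_apply, hu' x hx]
    exact k.2.2 _ (hτ x hx)
  · have := congrArg Subtype.val hkj
    simp only [Subgroup.coe_mul, InvMemClass.coe_inv, SubgroupClass.coe_zpow] at this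
    rw [← this]; group

/-- The pointwise fixer of the fixed points of a `p`-cycle has order not divisible by `p ^ 2`. -/
theorem not_sq_dvd_suppGroup {p : ℕ} (hp : p.Prime) {g : Perm α} (hgp : g.support.card = p) :
    ¬ p ^ 2 ∣ Nat.card (suppGroup G g) := by
    let K := suppGroup G g
    have hsub : ∀ σ : K, ∀ x, g x ≠ x → g ((σ : Perm α) x) ≠ (σ : Perm α) x := by
      intro σ x hx h
      have := σ.2.2 _ h
      exact hx (by rw [← (σ : Perm α).injective this]; exact h)
    let φ : K →* Perm {x : α // g x ≠ x} :=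
      { toFun := fun σ => (σ : Perm α).subtypePerm (fun x => ⟨fun h hx => h (by
            rw [σ.2.2 x hx]; exact hx), hsub σ x⟩)
        map_one' := by ext x; rfl
        map_mul' := fun a b => by ext x; rfl }
    have hinj : Function.Injective φ := by
      intro a b hab
      apply Subtype.ext
      ext x
      by_cases hx : g x = x
      · rw [a.2.2 x hx, b.2.2 x hx]
      · exact congrArg Subtype.val (Equiv.ext_iff.mp hab ⟨x, hx⟩)
    have hdvd := Subgroup.card_dvd_of_injective φ hinj
    have hc : Nat.card {x : α // g x ≠ x} = p := by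
      rw [← hgp, Nat.card_eq_fintype_card, Fintype.card_subtype]
      congr 1
    rw [Nat.card_perm, hc] at hdvd
    intro h
    have := h.trans hdvd
    obtain ⟨q, rfl⟩ : ∃ q, p = q + 1 := ⟨p - 1, by have := hp.one_le; omega⟩
    rw [Nat.factorial_succ, pow_two, mul_dvd_mul_iff_left (by omega), hp.dvd_factorial] at this
    omega

/-- The case of a cycle of prime length. -/
theorem exists_normalizing {p : ℕ} (hp : p.Prime) {g : Perm α} (hgc : g.IsCycle)
    (hgp : g.support.card = p) (hg : g ∈ G)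
    (htr : IsMultiplyPretransitive G α (g.supportᶜ : Finset α).card)
    (τ : Perm α) (hτ : ∀ x, g x = x → g (τ x) = τ x) :
    ∃ h ∈ G, (∀ x, g x = x → h x = τ x) ∧ ∃ j : ℤ, h * g * h⁻¹ = g ^ j :=
  exists_normalizing_of_not_sq_dvd hp (by rw [hgc.orderOf, hgp]) hg (not_sq_dvd_suppGroup hp hgp)
    htr τ hτ

/-- **Jordan**: a primitive group containing a cycle of prime length `p`, `p + 3 ≤ n`, contains
the alternating group. -/
theorem alternatingGroup_le_of_prime_cycle (hG : IsPreprimitive G α) {p : ℕ} (hp : p.Prime)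
    (hpn : p + 3 ≤ Fintype.card α) {g : Perm α} (hgc : g.IsCycle) (hgp : g.support.card = p)
    (hg : g ∈ G) : alternatingGroup α ≤ G := by
  haveI := Fact.mk hp
  by_cases hp3 : p = 3
  · exact alternatingGroup_le_of_isPreprimitive_of_isThreeCycle_mem hG
      (card_support_eq_three_iff.mp (hp3 ▸ hgp)) hg
  set F := (g.supportᶜ : Finset α) with hF
  have hFcard : F.card = Fintype.card α - p := by rw [hF, Finset.card_compl, hgp]
  obtain ⟨n, hn⟩ : ∃ n, F.card = n + 1 := ⟨F.card - 1, by omega⟩
  have htr2 : IsMultiplyPreprimitive G α (n + 2) := by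
    apply hG.isMultiplyPreprimitive (s := (g.support : Set α)ᶜ)
    · rw [← hn, hF, ← Finset.coe_compl, Set.ncard_coe_finset]
    · rw [Nat.card_eq_fintype_card]; have := hp.two_le; omega
    have := isPretransitive_of_isCycle_mem hgc hg
    apply IsPreprimitive.of_prime_card
    have : Nat.card ↥(SubMulAction.ofFixingSubgroup G ((g.support : Set α)ᶜ)) = p := by
      rw [← hgp, ← Nat.card_eq_finsetCard]
      apply Nat.card_congr
      refine Equiv.subtypeEquivRight (fun x => ?_)
      simp [SubMulAction.mem_ofFixingSubgroup_iff]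
    rw [this]; exact hp
  have htr : IsMultiplyPretransitive G α F.card := by
    haveI : IsMultiplyPretransitive G α (n + 2) := IsMultiplyPreprimitive.isMultiplyPretransitive ..
    rw [hn]
    exact isMultiplyPretransitive_of_le' (n := n + 2) (by omega) (by
      have : F.card ≤ Fintype.card α := F.card_le_univ
      rw [ENat.card_eq_coe_fintype_card]; norm_cast; have := hp.two_le; omega)
  obtain ⟨a, b, c, ha, hb, hc, hab, hac, hbc⟩ :=
    Finset.two_lt_card_iff.mp (show 2 < F.card by omega)
  have hmemF : ∀ x, x ∈ F ↔ g x = x := fun x => by simp [F]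
  have hsw : ∀ u v, u ∈ F → v ∈ F → ∀ x, g x = x → g (swap u v x) = swap u v x := by
    intro u v hu hv x hx
    rw [← hmemF] at hx ⊢
    rw [swap_apply_def]; split_ifs <;> assumption
  obtain ⟨h1, h1G, h1F, j1, h1j⟩ := exists_normalizing hp hgc hgp hg htr _ (hsw a b ha hb)
  obtain ⟨h2, h2G, h2F, j2, h2j⟩ := exists_normalizing hp hgc hgp hg htr _ (hsw b c hb hc)
  set d := h1 * h2 * h1⁻¹ * h2⁻¹ with hd
  have hdG : d ∈ G := G.mul_mem (G.mul_mem (G.mul_mem h1G h2G) (G.inv_mem h1G)) (G.inv_mem h2G)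
  set σ := swap a b * swap b c * swap a b * swap b c with hσ
  have hinvF : ∀ (h : Perm α) (u v : α), u ∈ F → v ∈ F → (∀ x, g x = x → h x = swap u v x) →
      ∀ x, g x = x → h⁻¹ x = swap u v x := by
    intro h u v hu hv hh x hx
    apply h.injective
    rw [hh _ (hsw u v hu hv x hx), swap_apply_self]
    exact Equiv.apply_symm_apply h x
  have hdF : ∀ x, g x = x → d x = σ x := by
    intro x hx
    have e1 := hinvF h2 b c hb hc h2F x hx
    have x1 := hsw b c hb hc x hx
    have e2 := hinvF h1 a b ha hb h1F _ x1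
    have x2 := hsw a b ha hb _ x1
    have x3 := hsw b c hb hc _ x2
    change (h1 * h2 * h1⁻¹ * h2⁻¹) x = (swap a b * swap b c * swap a b * swap b c) x
    simp only [Perm.mul_apply]
    rw [e1, e2, h2F _ x2, h1F _ x3]
  have hdcomm : Commute d g := by
    have key : ∀ (h : Perm α) (j : ℤ), h * g * h⁻¹ = g ^ j → ∀ i : ℤ, h * g ^ i * h⁻¹ = g ^ (j * i) := by
      intro h j hj i
      rw [← conj_zpow, hj, ← zpow_mul]
    have e12 : (h1 * h2) * g * (h1 * h2)⁻¹ = g ^ (j1 * j2) := by
      rw [← key h1 j1 h1j j2, ← h2j]; group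
    have e21 : (h2 * h1) * g * (h2 * h1)⁻¹ = g ^ (j2 * j1) := by
      rw [← key h2 j2 h2j j1, ← h1j]; group
    have e : (h1 * h2) * g * (h1 * h2)⁻¹ = (h2 * h1) * g * (h2 * h1)⁻¹ := by
      rw [e12, e21, mul_comm j1]
    have h4 : Commute d (g ^ (j2 * j1)) := by
      rw [← e21]
      calc d * ((h2 * h1) * g * (h2 * h1)⁻¹) = (h1 * h2) * g * (h1 * h2)⁻¹ * d := by rw [hd]; group
        _ = (h2 * h1) * g * (h2 * h1)⁻¹ * d := by rw [e]
    have hmem : g ∈ Subgroup.zpowers (g ^ (j2 * j1)) := by
      have hle : Subgroup.zpowers (g ^ (j2 * j1)) ≤ Subgroup.zpowers g :=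
        Subgroup.zpowers_le.mpr (Subgroup.zpow_mem_zpowers g _)
      have hcard : Nat.card (Subgroup.zpowers g) ≤ Nat.card (Subgroup.zpowers (g ^ (j2 * j1))) := by
        rw [Nat.card_zpowers, Nat.card_zpowers, ← e21]
        exact (orderOf_injective (MulAut.conj (h2 * h1)).toMonoidHom (MulAut.conj _).injective g).ge
      rw [Subgroup.eq_of_le_of_card_ge hle hcard]; exact Subgroup.mem_zpowers g
    obtain ⟨i, hi⟩ := Subgroup.mem_zpowers_iff.mp hmem
    rw [← hi]
    exact h4.zpow_right i
  have h3σ : σ.IsThreeCycle := by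
    have h : (swap a b * swap b c).IsThreeCycle := by
      rw [swap_comm a b]
      exact isThreeCycle_swap_mul_swap_same hab.symm hbc hac
    have e : σ = (swap a b * swap b c) * (swap a b * swap b c) := by rw [hσ]; group
    rw [e]
    exact Perm.IsThreeCycle.isThreeCycle_sq h
  have hkey : d ^ p = σ ^ p := by
    have hord : orderOf g = p := by rw [hgc.orderOf, hgp]
    have hσfix : ∀ x, g x ≠ x → σ x = x := by
      intro x hx
      have : ∀ y, y ∈ F → x ≠ y := fun y hy h => hx (h ▸ (hmemF y).mp hy)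
      simp only [hσ, Perm.mul_apply]
      simp [swap_apply_of_ne_of_ne (this a ha) (this b hb), swap_apply_of_ne_of_ne (this b hb) (this c hc)]
    have hσF : ∀ x, g x = x → g (σ x) = σ x := by
      intro x hx
      simp only [hσ, Perm.mul_apply]
      exact hsw a b ha hb _ (hsw b c hb hc _ (hsw a b ha hb _ (hsw b c hb hc _ hx)))
    ext x
    by_cases hx : g x = x
    · have : ∀ m : ℕ, (d ^ m) x = (σ ^ m) x ∧ g ((σ ^ m) x) = (σ ^ m) x := by
        intro m
        induction m with
        | zero => exact ⟨rfl, hx⟩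
        | succ m ih =>
          rw [pow_succ' d, pow_succ' σ, Perm.mul_apply d, Perm.mul_apply σ, ih.1, hdF _ ih.2]
          exact ⟨rfl, hσF _ ih.2⟩
      exact (this p).1
    · rw [← hord, pow_orderOf_apply_of_commute hgc hdcomm hx, hord]
      exact (Perm.pow_apply_eq_self_of_apply_eq_self (hσfix x hx) p).symm
  refine alternatingGroup_le_of_isPreprimitive_of_isThreeCycle_mem hG (g := σ ^ p) ?_
    (hkey ▸ G.pow_mem hdG p)
  · have h3 : σ ^ 3 = 1 := by rw [← h3σ.orderOf, pow_orderOf_eq_one]
    have hm : p % 3 = 1 ∨ p % 3 = 2 := by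
      have : p % 3 ≠ 0 := fun h => hp3 ((Nat.prime_dvd_prime_iff_eq Nat.prime_three hp).mp
        (Nat.dvd_of_mod_eq_zero h)).symm
      omega
    rw [← Nat.mod_add_div p 3, pow_add, pow_mul, h3, one_pow, mul_one]
    rcases hm with hm | hm <;> rw [hm]
    · rw [pow_one]; exact h3σ
    · rw [pow_two]; exact Perm.IsThreeCycle.isThreeCycle_sq h3σ

end CfsgLib.JordanPrime
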