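/- At least three primes between `n` and `2 n` for large `n`, and two well separated primes
above half of `m`. -/
import Mathlib.NumberTheory.Bertrand
import Mathlib.Tactic

namespace CfsgLib.PrimesHalf

open Finset Nat

/-- The primes in `(n, 2 n]`. -/
def upperPrimes (n : ℕ) : Finset ℕ := (Finset.Ioc n (2 * n)).filter Nat.Prime

theorem centralBinom_le (n : ℕ) (hn : 2 < n) :
    centralBinom n ≤ (2 * n) ^ (sqrt (2 * n) + (upperPrimes n).card) * 4 ^ (2 * n / 3) := by
  have n_pos : 0 < n := (Nat.zero_le _).trans_lt hn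
  have n2_pos : 1 ≤ 2 * n := mul_pos (zero_lt_two' ℕ) n_pos
  let f x := x ^ n.centralBinom.factorization x
  have hf : ∀ p, f p ≤ 2 * n := fun p => pow_factorization_choose_le (mul_pos two_pos n_pos)
  let S := {p ∈ Finset.range (2 * n / 3 + 1) | Nat.Prime p}
  have h1 : centralBinom n = ∏ p ∈ S ∪ upperPrimes n, f p := by
    conv_lhs => rw [← n.prod_pow_factorization_centralBinom]
    refine (Finset.prod_subset ?_ ?_).symm
    · intro x hx
      simp only [S, upperPrimes, mem_union, mem_filter, mem_range, mem_Ioc] at hx ⊢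
      omega
    · intro x hx h2x
      rw [Finset.mem_range] at hx
      by_cases hp : x.Prime
      · have : x ≤ n ∧ 2 * n < 3 * x := by
          simp only [S, upperPrimes, mem_union, mem_filter, mem_range, mem_Ioc, hp, and_true] at h2x
          omega
        rw [factorization_centralBinom_of_two_mul_self_lt_three_mul hn this.1 this.2, Nat.pow_zero]
      · rw [factorization_eq_zero_of_not_prime n.centralBinom hp, Nat.pow_zero]
  have hdisj : Disjoint S (upperPrimes n) := by
    rw [Finset.disjoint_left]; intro x hx hx'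
    simp only [S, upperPrimes, mem_filter, mem_range, mem_Ioc] at hx hx'
    omega
  rw [h1, Finset.prod_union hdisj,
    ← Finset.prod_filter_mul_prod_filter_not S (· ≤ sqrt (2 * n))]
  have hT : ∏ p ∈ upperPrimes n, f p ≤ (2 * n) ^ (upperPrimes n).card :=
    (Finset.prod_le_prod' fun p _ => hf p).trans (by rw [Finset.prod_const])
  rw [pow_add]
  calc _ ≤ (2 * n) ^ sqrt (2 * n) * 4 ^ (2 * n / 3) * (2 * n) ^ (upperPrimes n).card := by
        refine mul_le_mul' (mul_le_mul' ?_ ?_) hT
        · refine (Finset.prod_le_prod' fun p _ => hf p).trans ?_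
          rw [Finset.prod_const]
          refine pow_right_mono₀ n2_pos ((Finset.card_le_card (t := Finset.Icc 1 (sqrt (2 * n)))
            fun x hx => ?_).trans (by simp))
          obtain ⟨h1, h2⟩ := Finset.mem_filter.1 hx
          exact Finset.mem_Icc.mpr ⟨(Finset.mem_filter.1 h1).2.one_lt.le, h2⟩
        · refine le_trans ?_ (primorial_le_four_pow (2 * n / 3))
          refine (Finset.prod_le_prod' fun p hp => (?_ : f p ≤ p)).trans ?_
          · obtain ⟨h1, h2⟩ := Finset.mem_filter.1 hp
            refine (pow_right_mono₀ (Finset.mem_filter.1 h1).2.one_lt.le ?_).trans (pow_one p).le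
            exact Nat.factorization_choose_le_one (sqrt_lt'.mp <| not_le.1 h2)
          refine Finset.prod_le_prod_of_subset_of_one_le' (Finset.filter_subset _ _) ?_
          exact fun p hp _ => (Finset.mem_filter.1 hp).2.one_lt.le
    _ = _ := by ring

/-- For `n ≥ 2048` there are at least three primes in `(n, 2 n]`. -/
theorem three_le_card_upperPrimes {n : ℕ} (hn : 2048 ≤ n) : 3 ≤ (upperPrimes n).card := by
  by_contra hc
  have hb := centralBinom_le n (by omega)
  have h4 := Nat.four_pow_lt_mul_centralBinom n (by omega)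
  set s := sqrt (2 * n) with hs
  have hs1 : s * s ≤ 2 * n := Nat.sqrt_le (2 * n)
  have hs2 : 2 * n < (s + 1) * (s + 1) := Nat.lt_succ_sqrt (2 * n)
  have hs64 : 64 ≤ s := Nat.le_sqrt.mpr (by omega)
  set k := Nat.log 2 (s + 1) + 1 with hk
  have hk1 : s + 1 < 2 ^ k := Nat.lt_pow_succ_log_self (by omega) _
  have hk2 : 2 ^ (k - 1) ≤ s + 1 := by rw [hk, Nat.add_sub_cancel]; exact Nat.pow_log_le_self 2 (by omega)
  have hk7 : 7 ≤ k := by
    by_contra h
    have : 2 ^ k ≤ 2 ^ 6 := Nat.pow_le_pow_right (by omega) (by omega)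
    omega
  have hlin : 6 * k + 22 ≤ s := by
    obtain ⟨j, hj⟩ : ∃ j, k = j + 7 := ⟨k - 7, by omega⟩
    rw [hj] at hk2 ⊢
    have : ∀ j : ℕ, 6 * (j + 7) + 22 + 1 ≤ 2 ^ (j + 6) ∨ j = 0 := by
      intro j
      induction j with
      | zero => exact Or.inr rfl
      | succ i ih =>
        left
        rcases ih with h | h
        · rw [show i + 1 + 6 = (i + 6) + 1 by omega, pow_succ]; omega
        · subst h; norm_num
    rcases this j with h | h
    · rw [show j + 7 - 1 = j + 6 by omega] at hk2; omega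
    · omega
  have h2n : 2 * n ≤ 2 ^ (2 * k) := by
    rw [two_mul k, pow_add]; nlinarith
  have hexp : 2 * (2 * n / 3) + 2 * k * (s + 3) ≤ 2 * n := by
    have : 6 * k * (s + 3) + 4 * (s+3) ≤ s * (s + 3) := by nlinarith
    have h3 : 3 * (2 * n / 3) ≤ 2 * n := Nat.mul_div_le _ _
    nlinarith
  have : n * centralBinom n ≤ 4 ^ n := by
    calc n * centralBinom n ≤ (2 * n) * ((2 * n) ^ (s + 2) * 4 ^ (2 * n / 3)) := by
          refine mul_le_mul' (by omega) (hb.trans (Nat.mul_le_mul_right _ ?_))
          exact Nat.pow_le_pow_right (by omega) (by omega)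
      _ = (2 * n) ^ (s + 3) * 4 ^ (2 * n / 3) := by ring
      _ ≤ (2 ^ (2 * k)) ^ (s + 3) * 4 ^ (2 * n / 3) :=
          Nat.mul_le_mul_right _ (Nat.pow_le_pow_left h2n _)
      _ = 2 ^ (2 * (2 * n / 3) + 2 * k * (s + 3)) := by
          rw [← pow_mul, pow_add, pow_mul 2 2 (2 * n / 3)]; norm_num; ring
      _ ≤ 2 ^ (2 * n) := Nat.pow_le_pow_right (by omega) hexp
      _ = 4 ^ n := by rw [pow_mul]; norm_num
  omega

/-- For `m ≥ 17` there are primes `m / 2 < p < q ≤ m` with `p + 3 ≤ q`. -/
theorem exists_primes {m : ℕ} (hm : 17 ≤ m) :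
    ∃ p q : ℕ, p.Prime ∧ q.Prime ∧ m < 2 * p ∧ p + 3 ≤ q ∧ q ≤ m := by
  by_cases h : m < 4096
  · have mk : ∀ p q : ℕ, p.Prime → q.Prime → p + 3 ≤ q → q ≤ m → m < 2 * p →
        ∃ p q : ℕ, p.Prime ∧ q.Prime ∧ m < 2 * p ∧ p + 3 ≤ q ∧ q ≤ m :=
      fun p q h1 h2 h3 h4 h5 => ⟨p, q, h1, h2, h5, h3, h4⟩
    by_cases h1 : m < 22; · exact mk 11 17 (by norm_num) (by norm_num) (by omega) (by omega) (by omega)
    by_cases h2 : m < 26; · exact mk 13 19 (by norm_num) (by norm_num) (by omega) (by omega) (by omega)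
    by_cases h3 : m < 38; · exact mk 19 23 (by norm_num) (by norm_num) (by omega) (by omega) (by omega)
    by_cases h4 : m < 62; · exact mk 31 37 (by norm_num) (by norm_num) (by omega) (by omega) (by omega)
    by_cases h5 : m < 106; · exact mk 53 61 (by norm_num) (by norm_num) (by omega) (by omega) (by omega)
    by_cases h6 : m < 194; · exact mk 97 103 (by norm_num) (by norm_num) (by omega) (by omega) (by omega)
    by_cases h7 : m < 362; · exact mk 181 193 (by norm_num) (by norm_num) (by omega) (by omega) (by omega)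
    by_cases h8 : m < 706; · exact mk 353 359 (by norm_num) (by norm_num) (by omega) (by omega) (by omega)
    by_cases h9 : m < 1382; · exact mk 691 701 (by norm_num) (by norm_num) (by omega) (by omega) (by omega)
    by_cases h10 : m < 2722; · exact mk 1361 1367 (by norm_num) (by norm_num) (by omega) (by omega) (by omega)
    exact mk 2707 2719 (by norm_num) (by norm_num) (by omega) (by omega) (by omega)
  · obtain ⟨a, b, c, ha, hb, hc, hab, hac, hbc⟩ :=
      Finset.two_lt_card_iff.mp (three_le_card_upperPrimes (n := m / 2) (by omega))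
    simp only [upperPrimes, mem_filter, mem_Ioc] at ha hb hc
    have odd' : ∀ x, x.Prime → m / 2 < x → x % 2 = 1 := fun x hx hx' =>
      (Nat.Prime.eq_two_or_odd hx).resolve_left (by omega)
    have := odd' a ha.2 ha.1.1
    have := odd' b hb.2 hb.1.1
    have := odd' c hc.2 hc.1.1
    have : a + 3 ≤ b ∨ a + 3 ≤ c ∨ b + 3 ≤ a ∨ b + 3 ≤ c ∨ c + 3 ≤ a ∨ c + 3 ≤ b := by omega
    rcases this with h | h | h | h | h | h
    · exact ⟨a, b, ha.2, hb.2, by omega, h, by omega⟩
    · exact ⟨a, c, ha.2, hc.2, by omega, h, by omega⟩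
    · exact ⟨b, a, hb.2, ha.2, by omega, h, by omega⟩
    · exact ⟨b, c, hb.2, hc.2, by omega, h, by omega⟩
    · exact ⟨c, a, hc.2, ha.2, by omega, h, by omega⟩
    · exact ⟨c, b, hc.2, hb.2, by omega, h, by omega⟩

end CfsgLib.PrimesHalf
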