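/- Small transitive permutation groups: point fixers, sharp 2-transitivity exclusions and
primitivity from a long cycle of prime length. -/
import Cfsg.Agent.Perm69.JordanPrime
import Mathlib.GroupTheory.Perm.Cycle.Type
import Mathlib.GroupTheory.Perm.Centralizer
import Mathlib.GroupTheory.SpecificGroups.Alternating.Simple

namespace CfsgLib.SmallTransitive

open Equiv Equiv.Perm MulAction
open scoped Pointwise

variable {α : Type*} [Fintype α] [DecidableEq α]

omit [Fintype α] in
/-- A permutation of prime order `p` moves at least `p` points of any invariant set it moves. -/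
theorem card_le_of_moves {σ : Perm α} {p : ℕ} (hp : p.Prime) (hσp : σ ^ p = 1) {S : Finset α}
    (hS : ∀ x ∈ S, σ x ∈ S) {a : α} (ha : a ∈ S) (haσ : σ a ≠ a) : p ≤ S.card := by
  have hmem : ∀ n : ℕ, (σ ^ n) a ∈ S := by
    intro n; induction n with
    | zero => exact ha
    | succ n ih => rw [pow_succ', Perm.mul_apply]; exact hS _ ih
  have hper : Function.minimalPeriod (σ : α → α) a = p := by
    haveI := Fact.mk hp
    have hpp : Function.IsPeriodicPt (σ : α → α) p a := by
      show (σ : α → α)^[p] a = a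
      rw [← Perm.coe_pow, hσp]; rfl
    exact Function.minimalPeriod_eq_prime hpp haσ
  have := Finset.card_le_card_of_injOn (s := Finset.range p) (fun n => (σ ^ n) a)
    (fun n _ => hmem n) (by
      intro i hi j hj hij
      simp only [Finset.coe_range, Set.mem_Iio] at hi hj
      simp only [Perm.coe_pow] at hij
      rw [← hper] at hi hj
      exact Function.iterate_injOn_Iio_minimalPeriod hi hj hij)
  simpa using this

/-- The subgroup of elements of `H` fixing `a`. -/
def fixIn (H : Subgroup (Perm α)) (a : α) : Subgroup (Perm α) := H ⊓ stabilizer (Perm α) a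

omit [Fintype α] [DecidableEq α] in
theorem mem_fixIn {H : Subgroup (Perm α)} {a : α} {g : Perm α} :
    g ∈ fixIn H a ↔ g ∈ H ∧ g a = a := by
  simp [fixIn, Subgroup.mem_inf, MulAction.mem_stabilizer_iff]

omit [DecidableEq α] in
/-- Orbit-stabiliser. -/
theorem card_eq_card_mul_fixIn {H : Subgroup (Perm α)} {S : Finset α}
    (hS : ∀ g ∈ H, ∀ x ∈ S, g x ∈ S) {b : α} (hb : b ∈ S)
    (htr : ∀ c ∈ S, ∃ g ∈ H, g b = c) : Nat.card H = S.card * Nat.card (fixIn H b) := by
  have ho : orbit H b = (S : Set α) := by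
    ext c
    constructor
    · rintro ⟨g, rfl⟩; exact hS g g.2 b hb
    · intro hc; obtain ⟨g, hg, h⟩ := htr c hc; exact ⟨⟨g, hg⟩, h⟩
  have h1 := (stabilizer H b).index_mul_card
  rw [MulAction.index_stabilizer, ho, Set.ncard_coe_finset] at h1
  rw [← h1]
  congr 1
  apply Nat.card_congr
  exact
    { toFun := fun g => ⟨(g : H), mem_fixIn.mpr ⟨(g : H).2, g.2⟩⟩
      invFun := fun g => ⟨⟨(g : Perm α), (mem_fixIn.mp g.2).1⟩, (mem_fixIn.mp g.2).2⟩
      left_inv := fun g => rfl
      right_inv := fun g => rfl }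

omit [Fintype α] [DecidableEq α] in
theorem conj_mem_fixIn {H : Subgroup (Perm α)} {b c : α} {g k : Perm α} (hg : g ∈ H)
    (hgb : g b = c) (hk : k ∈ fixIn H c) : g⁻¹ * k * g ∈ fixIn H b := by
  obtain ⟨hk1, hk2⟩ := mem_fixIn.mp hk
  refine mem_fixIn.mpr ⟨H.mul_mem (H.mul_mem (H.inv_mem hg) hk1) hg, ?_⟩
  simp only [Perm.mul_apply, hgb, hk2]
  rw [← hgb]; exact Equiv.symm_apply_apply g b

/-- No group of order `(p + 1) p` acts sharply 2-transitively on `p + 1` points when `2` and `3`
divide `p + 1`. -/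
theorem false_of_sharp {H : Subgroup (Perm α)} {S : Finset α} {p : ℕ} (hp : p.Prime) (hp5 : 5 ≤ p)
    (h23 : 6 ∣ p + 1) (hcard : S.card = p + 1) (hfix : ∀ g ∈ H, ∀ c ∉ S, g c = c)
    {x : Perm α} (hx : orderOf x = p) (hxH : x ∈ H) {b : α} (hb : b ∈ S) (hxb : x b = b)
    (hxmove : ∀ c ∈ S, c ≠ b → x c ≠ c) (htr : ∀ c ∈ S, ∃ g ∈ H, g b = c)
    (hR : Nat.card (fixIn H b) = p) : False := by
  haveI := Fact.mk hp
  classical
  have hS : ∀ g ∈ H, ∀ c ∈ S, g c ∈ S := by
    intro g hg c hc
    by_contra h
    have := hfix g hg _ h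
    exact h (by rw [g.injective this]; exact hc)
  have hH := card_eq_card_mul_fixIn hS hb htr
  rw [hcard, hR] at hH
  choose f hf hfb using htr
  -- an element fixing a point of `S` has order dividing `p` and fixes only that point
  have hfixed : ∀ g ∈ H, ∀ c ∈ S, g c = c → g ^ p = 1 ∧ (g ≠ 1 → ∀ d ∈ S, g d = d → d = c) := by
    intro g hg c hc hgc
    set u := f c hc with hu
    have hk := conj_mem_fixIn (hf c hc) (hfb c hc) (mem_fixIn.mpr ⟨hg, hgc⟩)
    set k := u⁻¹ * g * u with hkdef
    have hkp : k ^ p = 1 := by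
      have := pow_card_eq_one' (x := (⟨k, hk⟩ : fixIn H b))
      rw [hR] at this; exact congrArg Subtype.val this
    have hg' : g = u * k * u⁻¹ := by rw [hkdef]; group
    refine ⟨by rw [hg', conj_pow, hkp]; group, fun hg1 d hd hgd => ?_⟩
    have hk1 : k ≠ 1 := by
      intro h; rw [h] at hg'; exact hg1 (by rw [hg']; group)
    have hxk : x ∈ Subgroup.zpowers k := by
      have h1 : orderOf k = p := orderOf_eq_prime hkp hk1
      have h2 : Subgroup.zpowers k = fixIn H b := by
        apply Subgroup.eq_of_le_of_card_ge (Subgroup.zpowers_le.mpr hk)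
        rw [Nat.card_zpowers, h1, hR]
      rw [h2]; exact mem_fixIn.mpr ⟨hxH, hxb⟩
    obtain ⟨i, rfl⟩ := Subgroup.mem_zpowers_iff.mp hxk
    have hd' : u⁻¹ d ∈ S := hS _ (H.inv_mem (hf c hc)) d hd
    have hkd : k (u⁻¹ d) = u⁻¹ d := by
      rw [hkdef]; simp only [Perm.mul_apply]
      rw [show u (u⁻¹ d) = d from Equiv.apply_symm_apply u d, hgd]
    have : u⁻¹ d = b := by
      by_contra hne
      exact hxmove _ hd' hne (Perm.zpow_apply_eq_self_of_apply_eq_self hkd i)
    rw [← hfb c hc, ← this]; exact (Equiv.apply_symm_apply u d).symm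
  let T : Finset (Perm α) := Finset.univ.filter (fun g => g ∈ H ∧ ∀ c ∈ S, g c ≠ c)
  have hmemT : ∀ g, g ∈ T ↔ g ∈ H ∧ ∀ c ∈ S, g c ≠ c := fun g => by simp [T]
  let A : Finset (Perm α) := Finset.univ.filter (fun g => g ∈ H ∧ g ≠ 1 ∧ ∃ c ∈ S, g c = c)
  have hA : (p + 1) * (p - 1) ≤ A.card := by
    let φ : S × Fin (p - 1) → A := fun q => ⟨f q.1 q.1.2 * x ^ (q.2.val + 1) * (f q.1 q.1.2)⁻¹, by
      simp only [A, Finset.mem_filter, Finset.mem_univ, true_and]
      refine ⟨H.mul_mem (H.mul_mem (hf _ _) (H.pow_mem hxH _)) (H.inv_mem (hf _ _)), ?_,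
        q.1, q.1.2, ?_⟩
      · intro h
        rw [mul_inv_eq_one, mul_eq_left] at h
        have := orderOf_dvd_of_pow_eq_one h
        rw [hx] at this
        have := Nat.le_of_dvd (by omega) this
        have := q.2.isLt
        omega
      · rw [Perm.mul_apply, Perm.mul_apply]
        have : (f q.1 q.1.2)⁻¹ (q.1 : α) = b := by
          apply (f q.1 q.1.2).injective
          rw [hfb q.1 q.1.2]; exact Equiv.apply_symm_apply _ _
        rw [this, Perm.pow_apply_eq_self_of_apply_eq_self hxb, hfb]⟩
    have hinj : Function.Injective φ := by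
      rintro ⟨c, i⟩ ⟨d, j⟩ h
      have h' : f c c.2 * x ^ (i.val + 1) * (f c c.2)⁻¹ = f d d.2 * x ^ (j.val + 1) * (f d d.2)⁻¹ :=
        congrArg Subtype.val h
      have hh := (φ (c, i)).2
      simp only [A, Finset.mem_filter, Finset.mem_univ, true_and] at hh
      have fix_at : ∀ (e : S) (k : ℕ), (f e e.2 * x ^ k * (f e e.2)⁻¹) (e : α) = e := by
        intro e k
        rw [Perm.mul_apply, Perm.mul_apply]
        have : (f e e.2)⁻¹ (e : α) = b := by
          apply (f e e.2).injective
          rw [hfb e e.2]; exact Equiv.apply_symm_apply _ _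
        rw [this, Perm.pow_apply_eq_self_of_apply_eq_self hxb, hfb]
      have hcd : (d : α) = c := by
        refine (hfixed _ hh.1 c c.2 (fix_at c _)).2 hh.2.1 d d.2 ?_
        change (f c c.2 * x ^ (i.val + 1) * (f c c.2)⁻¹) (d : α) = d
        rw [h']; exact fix_at d _
      obtain rfl : d = c := Subtype.ext hcd
      have hp' := mul_left_cancel (mul_right_cancel h')
      have h3 := (pow_inj_mod.mp hp')
      rw [hx, Nat.mod_eq_of_lt (by omega), Nat.mod_eq_of_lt (by omega)] at h3
      exact Prod.ext rfl (Fin.ext (show (i : ℕ) = j by omega))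
    have := Nat.card_le_card_of_injective φ hinj
    simpa [Nat.card_eq_fintype_card, hcard] using this
  have hT : T.card ≤ p := by
    let U : Finset (Perm α) := Finset.univ.filter (fun g => g ∈ H)
    have hU : U.card = Nat.card H := by
      rw [Nat.card_eq_fintype_card, Fintype.card_subtype]
    have hsub : insert 1 (T ∪ A) ⊆ U := by
      intro g hg
      simp only [Finset.mem_insert, Finset.mem_union, T, A, U, Finset.mem_filter, Finset.mem_univ, true_and] at hg ⊢
      rcases hg with rfl | h | h
      · exact H.one_mem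
      · exact h.1
      · exact h.1
    have hdisj : Disjoint T A := by
      rw [Finset.disjoint_left]; intro g hg hg'
      simp only [T, A, Finset.mem_filter, Finset.mem_univ, true_and] at hg hg'
      obtain ⟨c, hc, h⟩ := hg'.2.2
      exact hg.2 c hc h
    have hone : (1 : Perm α) ∉ T ∪ A := by
      simp only [Finset.mem_union, T, A, Finset.mem_filter, Finset.mem_univ, true_and]
      rintro (h | h)
      · exact h.2 b hb rfl
      · exact h.2.1 rfl
    have := Finset.card_le_card hsub
    rw [Finset.card_insert_of_notMem hone, Finset.card_union_of_disjoint hdisj, hU, hH] at this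
    obtain ⟨q, rfl⟩ : ∃ q, p = q + 1 := ⟨p - 1, by omega⟩
    simp only [Nat.add_sub_cancel] at hA
    nlinarith
  have key : ∀ ℓ : ℕ, ℓ.Prime → ℓ ∣ p + 1 → ℓ ≠ p → ∃ w ∈ T, orderOf w = ℓ := by
    intro ℓ hℓ hdvd hne
    haveI := Fact.mk hℓ
    obtain ⟨w, hw⟩ := exists_prime_orderOf_dvd_card' (G := H) ℓ (by rw [hH]; exact hdvd.mul_right p)
    rw [← Subgroup.orderOf_coe] at hw
    refine ⟨w, (hmemT _).mpr ⟨w.2, fun c hc h => ?_⟩, hw⟩
    have := orderOf_dvd_of_pow_eq_one (hfixed _ w.2 c hc h).1
    rw [hw] at this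
    exact hne ((Nat.prime_dvd_prime_iff_eq hℓ hp).mp this)
  obtain ⟨w2, hw2T, hw2⟩ := key 2 Nat.prime_two (dvd_trans (by norm_num) h23) (by omega)
  obtain ⟨w3, hw3T, hw3⟩ := key 3 Nat.prime_three (dvd_trans (by norm_num) h23) (by omega)
  have hcomm : ¬ Commute x w2 := by
    intro h
    have h1 : x (w2 b) = w2 b := by
      rw [← Perm.mul_apply, h.eq, Perm.mul_apply, hxb]
    exact hxmove _ (hS _ ((hmemT _).mp hw2T).1 b hb) (((hmemT _).mp hw2T).2 b hb) h1
  let ψ : Fin p → T := fun i => ⟨x ^ i.val * w2 * (x ^ i.val)⁻¹, (hmemT _).mpr ⟨H.mul_mem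
    (H.mul_mem (H.pow_mem hxH _) ((hmemT _).mp hw2T).1) (H.inv_mem (H.pow_mem hxH _)), fun c hc h => by
      rw [Perm.mul_apply, Perm.mul_apply] at h
      refine ((hmemT _).mp hw2T).2 ((x ^ i.val)⁻¹ c) (hS _ (H.inv_mem (H.pow_mem hxH _)) c hc) ?_
      apply (x ^ i.val).injective
      rw [h]; exact (Equiv.apply_symm_apply _ c).symm⟩⟩
  have hinj : Function.Injective ψ := by
    intro i j h
    have h' : x ^ i.val * w2 * (x ^ i.val)⁻¹ = x ^ j.val * w2 * (x ^ j.val)⁻¹ := congrArg Subtype.val h
    by_contra hne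
    apply hcomm
    have hc : Commute (x ^ ((i.val : ℤ) - j.val)) w2 := by
      rw [zpow_sub, zpow_natCast, zpow_natCast]
      calc x ^ i.val * (x ^ j.val)⁻¹ * w2
          = (x ^ j.val)⁻¹ * (x ^ i.val * w2 * (x ^ i.val)⁻¹) * x ^ i.val := by group
        _ = w2 * (x ^ i.val * (x ^ j.val)⁻¹) := by rw [h']; group
    have hgen : x ∈ Subgroup.zpowers (x ^ ((i.val : ℤ) - j.val)) := by
      have hne1 : x ^ ((i.val : ℤ) - j.val) ≠ 1 := by
        intro h1
        have := orderOf_dvd_iff_zpow_eq_one.mpr h1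
        rw [hx] at this
        obtain ⟨q, hq⟩ := this
        have hi := i.isLt; have hj := j.isLt
        have : q = 0 := by nlinarith
        subst this
        apply hne; apply Fin.ext; omega
      have h2 : Subgroup.zpowers (x ^ ((i.val : ℤ) - j.val)) = Subgroup.zpowers x := by
        apply Subgroup.eq_of_le_of_card_ge (Subgroup.zpowers_le.mpr (Subgroup.zpow_mem_zpowers x _))
        rw [Nat.card_zpowers, Nat.card_zpowers, hx]
        refine (orderOf_eq_prime ?_ hne1).ge
        rw [← zpow_natCast, ← zpow_mul, mul_comm, zpow_mul, zpow_natCast, (orderOf_dvd_iff_pow_eq_one.mp hx.dvd), one_zpow]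
      rw [h2]; exact Subgroup.mem_zpowers x
    obtain ⟨k, hk⟩ := Subgroup.mem_zpowers_iff.mp hgen
    rw [← hk]; exact hc.zpow_left k
  have hbij := (Fintype.bijective_iff_injective_and_card ψ).mpr ⟨hinj, by
    have := Fintype.card_le_of_injective ψ hinj
    simp only [Fintype.card_fin, Fintype.card_coe] at this ⊢
    omega⟩
  obtain ⟨i, hi⟩ := hbij.surjective ⟨w3, hw3T⟩
  have hi' : MulAut.conj (x ^ i.val) w2 = w3 := congrArg Subtype.val hi
  have := orderOf_injective (MulAut.conj (x ^ i.val)).toMonoidHom (MulAut.conj _).injective w2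
  rw [MulEquiv.coe_toMonoidHom, hi', hw2, hw3] at this
  omega

/-- A transitive group of prime degree `p` in which `⟨x⟩` is self-normalising has order `p`. -/
theorem card_eq_of_self_normalizing {H : Subgroup (Perm α)} {S : Finset α} {p : ℕ} (hp : p.Prime)
    (hcard : S.card = p) (hfix : ∀ g ∈ H, ∀ c ∉ S, g c = c) {x : Perm α} (hx : orderOf x = p)
    (hxH : x ∈ H) (htr : ∀ b ∈ S, ∀ c ∈ S, ∃ g ∈ H, g b = c)
    (hN : ∀ g ∈ H, (∃ j : ℤ, g * x * g⁻¹ = x ^ j) → g ∈ Subgroup.zpowers x) : Nat.card H = p := by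
  haveI := Fact.mk hp
  classical
  have hS : ∀ g ∈ H, ∀ c ∈ S, g c ∈ S := by
    intro g hg c hc
    by_contra h
    have := hfix g hg _ h
    exact h (by rw [g.injective this]; exact hc)
  let T : Finset (Perm α) := Finset.univ.filter (fun g => g ∈ H ∧ orderOf g = p)
  let K : Subgroup H := (Subgroup.zpowers x).subgroupOf H
  have hK : Nat.card K = p := by
    rw [Nat.card_congr (Subgroup.subgroupOfEquivOfLe (Subgroup.zpowers_le.mpr hxH)).toEquiv,
      Nat.card_zpowers, hx]
  set R := Nat.card (H ⧸ K) with hRdef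
  have hH : Nat.card H = R * p := by rw [Subgroup.card_eq_card_quotient_mul_card_subgroup K, hK]
  have hT : R * (p - 1) ≤ T.card := by
    let φ : (H ⧸ K) × Fin (p - 1) → T := fun q =>
      ⟨(q.1.out : H).1 * x ^ (q.2.val + 1) * ((q.1.out : H).1)⁻¹, by
        simp only [T, Finset.mem_filter, Finset.mem_univ, true_and]
        refine ⟨H.mul_mem (H.mul_mem (q.1.out).2 (H.pow_mem hxH _)) (H.inv_mem (q.1.out).2), ?_⟩
        rw [show (q.1.out : H).1 * x ^ (q.2.val + 1) * ((q.1.out : H).1)⁻¹
          = MulAut.conj (q.1.out : H).1 (x ^ (q.2.val + 1)) from rfl]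
        rw [← MulEquiv.coe_toMonoidHom, orderOf_injective _ (MulAut.conj _).injective,
          orderOf_pow' x (by omega), hx]
        have : Nat.gcd p (q.2.val + 1) = 1 := by
          exact Nat.coprime_of_lt_prime (by omega) (by have := q.2.isLt; omega) hp
        rw [this, Nat.div_one]⟩
    have hinj : Function.Injective φ := by
      rintro ⟨c, i⟩ ⟨d, j⟩ h
      have h' : (c.out : H).1 * x ^ (i.val + 1) * ((c.out : H).1)⁻¹ =
        (d.out : H).1 * x ^ (j.val + 1) * ((d.out : H).1)⁻¹ := congrArg Subtype.val h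
      set u := (c.out : H) with hu
      set v := (d.out : H) with hv
      have hconj : (v⁻¹ * u).1 * x ^ (i.val + 1) * ((v⁻¹ * u).1)⁻¹ = x ^ (j.val + 1) := by
        simp only [Subgroup.coe_mul, InvMemClass.coe_inv]
        calc _ = (v : Perm α)⁻¹ * ((u : Perm α) * x ^ (i.val + 1) * (u : Perm α)⁻¹) * v := by group
          _ = _ := by rw [h']; group
      have hmem : (v⁻¹ * u).1 ∈ Subgroup.zpowers x := by
        refine hN _ (v⁻¹ * u).2 ?_
        obtain ⟨k, hk⟩ : ∃ k : ℤ, (x ^ (i.val + 1)) ^ k = x := by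
          have h2 : Subgroup.zpowers (x ^ (i.val + 1)) = Subgroup.zpowers x := by
            apply Subgroup.eq_of_le_of_card_ge (Subgroup.zpowers_le.mpr (Subgroup.pow_mem _ (Subgroup.mem_zpowers x) _))
            rw [Nat.card_zpowers, Nat.card_zpowers, orderOf_pow' x (by omega), hx,
              Nat.coprime_iff_gcd_eq_one.mp (Nat.coprime_of_lt_prime (by omega) (by have := i.isLt; omega) hp), Nat.div_one]
          have : x ∈ Subgroup.zpowers (x ^ (i.val + 1)) := h2 ▸ Subgroup.mem_zpowers x
          exact Subgroup.mem_zpowers_iff.mp this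
        refine ⟨((j.val + 1 : ℕ) : ℤ) * k, ?_⟩
        rw [zpow_mul, zpow_natCast, ← hconj, conj_zpow, hk]
      have hcd : c = d := by
        rw [← QuotientGroup.out_eq' c, ← QuotientGroup.out_eq' d]
        symm
        rw [QuotientGroup.eq]
        exact hmem
      subst hcd
      have hp' := mul_left_cancel (mul_right_cancel h')
      have h3 := (pow_inj_mod.mp hp')
      rw [hx, Nat.mod_eq_of_lt (by omega), Nat.mod_eq_of_lt (by omega)] at h3
      exact Prod.ext rfl (Fin.ext (show (i : ℕ) = j by omega))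
    have := Nat.card_le_card_of_injective φ hinj
    rw [Nat.card_prod, Nat.card_fin, Nat.card_eq_finsetCard, ← hRdef] at this
    exact this
  have hC : ∀ b ∈ S, Nat.card (fixIn H b) = R := by
    intro b hb
    have := card_eq_card_mul_fixIn hS hb (htr b hb)
    rw [hcard, hH, mul_comm] at this
    exact (Nat.eq_of_mul_eq_mul_left hp.pos this).symm
  let U : Finset (Perm α) := Finset.univ.filter (fun g => g ∈ H)
  have hU : U.card = R * p := by
    rw [← hH, Nat.card_eq_fintype_card, Fintype.card_subtype]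
  have hTU : T ⊆ U := fun g hg => by
    simp only [T, U, Finset.mem_filter, Finset.mem_univ, true_and] at hg ⊢; exact hg.1
  have hall : ∀ b ∈ S, ∀ g ∈ H, orderOf g ≠ p → g b = b := by
    intro b hb
    let B : Finset (Perm α) := Finset.univ.filter (fun g => g ∈ fixIn H b)
    have hB : B.card = R := by rw [← hC b hb, Nat.card_eq_fintype_card, Fintype.card_subtype]
    have hsub : B ⊆ U \ T := by
      intro g hg
      simp only [B, U, T, Finset.mem_filter, Finset.mem_univ, true_and, Finset.mem_sdiff] at hg ⊢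
      obtain ⟨hg1, hg2⟩ := mem_fixIn.mp hg
      refine ⟨hg1, fun ⟨_, hord⟩ => ?_⟩
      have hg0 : g ≠ 1 := fun h => by rw [h, orderOf_one] at hord; exact hp.ne_one hord.symm
      obtain ⟨c, hc⟩ := not_forall.mp (fun h : ∀ c, g c = c => hg0 (Equiv.ext h))
      have hcS : c ∈ S := by by_contra h; exact hc (hfix g hg1 c h)
      have hpow : g ^ p = 1 := by rw [← hord]; exact pow_orderOf_eq_one g
      have hce : c ∈ S.erase b := Finset.mem_erase.mpr ⟨fun h => hc (h ▸ hg2), hcS⟩
      have := card_le_of_moves hp hpow (S := S.erase b) (fun y hy => by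
        obtain ⟨h1, h2⟩ := Finset.mem_erase.mp hy
        exact Finset.mem_erase.mpr ⟨fun h => h1 (g.injective (h.trans hg2.symm)), hS g hg1 y h2⟩) hce hc
      rw [Finset.card_erase_of_mem hb, hcard] at this
      have := hp.two_le
      omega
    have hle : (U \ T).card ≤ B.card := by
      have hTU' := Finset.card_le_card hTU
      rw [Finset.card_sdiff_of_subset hTU, hU, hB]
      rw [hU] at hTU'
      obtain ⟨q, rfl⟩ : ∃ q, p = q + 1 := ⟨p - 1, by have := hp.one_le; omega⟩
      simp only [Nat.add_sub_cancel] at hT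
      rw [Nat.mul_succ] at hTU' ⊢
      omega
    have heq := Finset.eq_of_subset_of_card_le hsub hle
    intro g hg hord
    have : g ∈ B := heq ▸ (by simp [U, T, hg, hord])
    simp only [B, Finset.mem_filter, Finset.mem_univ, true_and] at this
    exact (mem_fixIn.mp this).2
  obtain ⟨b, hb⟩ : S.Nonempty := Finset.card_pos.mp (hcard ▸ hp.pos)
  rw [card_eq_card_mul_fixIn hS hb (htr b hb), hcard]
  have : fixIn H b = ⊥ := by
    rw [Subgroup.eq_bot_iff_forall]
    intro g hg
    obtain ⟨hg1, hg2⟩ := mem_fixIn.mp hg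
    by_cases hord : orderOf g = p
    · exfalso
      have hg0 : g ≠ 1 := fun h => by rw [h, orderOf_one] at hord; exact hp.ne_one hord.symm
      obtain ⟨c, hc⟩ := not_forall.mp (fun h : ∀ c, g c = c => hg0 (Equiv.ext h))
      have hcS : c ∈ S := by by_contra h; exact hc (hfix g hg1 c h)
      have hce : c ∈ S.erase b := Finset.mem_erase.mpr ⟨fun h => hc (h ▸ hg2), hcS⟩
      have := card_le_of_moves hp (hord ▸ pow_orderOf_eq_one g) (S := S.erase b) (fun y hy => by
        obtain ⟨h1, h2⟩ := Finset.mem_erase.mp hy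
        exact Finset.mem_erase.mpr ⟨fun h => h1 (g.injective (h.trans hg2.symm)), hS g hg1 y h2⟩) hce hc
      rw [Finset.card_erase_of_mem hb, hcard] at this
      have := hp.two_le
      omega
    · ext c
      by_cases hc : c ∈ S
      · exact hall c hc g hg1 hord
      · exact hfix g hg1 c hc
  rw [this, Subgroup.card_bot, mul_one]

/-- A transitive group of degree `d` containing a cycle of prime length `q`, `d < 2 q`, is
primitive. -/
theorem isPreprimitive_of_prime_cycle {G : Subgroup (Perm α)} (htr : IsPretransitive G α)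
    {q : ℕ} (hq : q.Prime) {y : Perm α} (hy : y.IsCycle) (hyq : y.support.card = q) (hyG : y ∈ G)
    (hd : Fintype.card α < 2 * q) : IsPreprimitive G α := by
  classical
  obtain ⟨a, ha, hcyc⟩ := id hy
  apply IsPreprimitive.of_isTrivialBlock_base a
  intro B haB hB
  set Y : G := ⟨y, hyG⟩ with hY
  by_cases hfixB : Y • B = B
  · right
    have hsub : (y.support : Set α) ⊆ B := by
      intro c hc
      obtain ⟨i, rfl⟩ := hy.exists_pow_eq ha (Perm.mem_support.mp hc)
      clear hc
      induction i with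
      | zero => exact haB
      | succ i ih =>
        rw [← hfixB, pow_succ', Perm.mul_apply]
        exact Set.smul_mem_smul_set ih
    have hge : q ≤ B.ncard := by
      rw [← hyq, ← Set.ncard_coe_finset]; exact Set.ncard_le_ncard hsub
    obtain ⟨k, hk⟩ := hB.ncard_dvd_card ⟨a, haB⟩
    rw [Nat.card_eq_fintype_card] at hk
    have hk1 : k = 1 := by
      have hpos : 0 < Fintype.card α := Fintype.card_pos_iff.mpr ⟨a⟩
      have : k ≠ 0 := by rintro rfl; simp at hk; omega
      have : k < 2 := by
        by_contra h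
        have : 2 * B.ncard ≤ B.ncard * k := by rw [mul_comm]; exact Nat.mul_le_mul_left _ (by omega)
        omega
      omega
    rw [hk1, mul_one] at hk
    exact Set.eq_univ_of_univ_subset (by
      rw [Set.eq_of_subset_of_ncard_le (Set.subset_univ B) (by rw [Set.ncard_univ, Nat.card_eq_fintype_card, hk])])
  · left
    have hYq : Y ^ q = 1 := by
      apply Subtype.ext
      simp only [hY, SubgroupClass.coe_pow, OneMemClass.coe_one]
      rw [← hyq, ← hy.orderOf, pow_orderOf_eq_one]
    haveI := Fact.mk hq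
    have hper : Function.minimalPeriod (fun C : Set α => Y • C) B = q := by
      have hpp : Function.IsPeriodicPt (fun C : Set α => Y • C) q B := by
        show (fun C : Set α => Y • C)^[q] B = B
        rw [smul_iterate, hYq]; exact one_smul _ B
      exact Function.minimalPeriod_eq_prime hpp hfixB
    have hle : q ≤ (orbit G B).ncard := by
      have := Set.ncard_le_ncard_of_injOn (s := (Finset.range q : Set ℕ)) (t := orbit G B)
        (fun n => (fun C : Set α => Y • C)^[n] B)
        (fun n _ => by rw [smul_iterate]; exact mem_orbit B _)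
        (fun i hi j hj hij => by
          simp only [Finset.coe_range, Set.mem_Iio] at hi hj
          exact Function.iterate_injOn_Iio_minimalPeriod (hper ▸ hi) (hper ▸ hj) hij)
        (Set.toFinite _)
      rw [Set.ncard_coe_finset, Finset.card_range] at this
      exact this
    have hmul := hB.ncard_block_mul_ncard_orbit_eq ⟨a, haB⟩
    rw [Nat.card_eq_fintype_card] at hmul
    have h1 : B.ncard ≤ 1 := by
      by_contra h
      have : 2 * q ≤ B.ncard * (orbit G B).ncard := Nat.mul_le_mul (by omega) hle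
      omega
    exact Set.ncard_le_one_iff_subsingleton.mp h1

end CfsgLib.SmallTransitive
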