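/- Groups generated by two elements of large prime order in alternating groups. -/
import Cfsg.Agent.Perm69.JordanPrime
import Cfsg.Agent.Perm69.SmallTransitive
import Mathlib.FieldTheory.Finite.Basic
import Mathlib.GroupTheory.Perm.Cycle.PossibleTypes

namespace CfsgLib.TwoPrimeCycles

open Equiv Equiv.Perm MulAction CfsgLib.SmallTransitive CfsgLib.JordanPrime

variable {α : Type*} [Fintype α] [DecidableEq α]

/-- A permutation commuting with a cycle `g` and fixing the fixed points of `g` is a power of `g`. -/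
theorem mem_zpowers_of_commute {g c : Perm α} (hgc : g.IsCycle) (hc : Commute c g)
    (hfix : ∀ z, g z = z → c z = z) : c ∈ Subgroup.zpowers g := by
  obtain ⟨a, ha, -⟩ := id hgc
  have hca : g (c a) ≠ c a := fun h => ha (c.injective (by
    have := Equiv.ext_iff.mp hc a
    simp only [Perm.mul_apply] at this
    rw [this, h]))
  obtain ⟨i, hi⟩ := hgc.sameCycle ha hca
  refine Subgroup.mem_zpowers_iff.mpr ⟨i, Equiv.ext fun z => ?_⟩
  by_cases hz : g z = z
  · rw [hfix z hz, Perm.zpow_apply_eq_self_of_apply_eq_self hz]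
  · obtain ⟨k, rfl⟩ := hgc.sameCycle ha hz
    have := Equiv.ext_iff.mp (hc.zpow_right k) a
    simp only [Perm.mul_apply] at this
    rw [this, ← hi, ← Perm.mul_apply, ← Perm.mul_apply, ← zpow_add, ← zpow_add, add_comm]

/-- A group generated by `x` and a cycle `y` is transitive if every `⟨x⟩`-orbit meets the support
of `y`. -/
theorem isPretransitive_closure {x y : Perm α} (hy : y.IsCycle)
    (h : ∀ a, ∃ n : ℕ, y ((x ^ n) a) ≠ (x ^ n) a) :
    IsPretransitive (Subgroup.closure ({x, y} : Set (Perm α))) α := by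
  obtain ⟨o, ho, -⟩ := id hy
  set G := Subgroup.closure ({x, y} : Set (Perm α))
  have hx : x ∈ G := Subgroup.subset_closure (by simp)
  have hy' : y ∈ G := Subgroup.subset_closure (by simp)
  have key : ∀ a, ∃ g : G, g • a = o := by
    intro a
    obtain ⟨n, hn⟩ := h a
    obtain ⟨i, hi⟩ := hy.sameCycle hn ho
    exact ⟨⟨y ^ i * x ^ n, G.mul_mem (G.zpow_mem hy' i) (G.pow_mem hx n)⟩, hi⟩
  refine ⟨fun a b => ?_⟩
  obtain ⟨g, hg⟩ := key a
  obtain ⟨k, hk⟩ := key b
  exact ⟨k⁻¹ * g, by rw [mul_smul, hg, inv_smul_eq_iff, hk]⟩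

variable {G : Subgroup (Perm α)}

/-- A primitive group with a cycle of prime length `p < d` is `(d - p + 1)`-transitive. -/
theorem isMultiplyPretransitive_of_prime_cycle (hG : IsPreprimitive G α) {p k : ℕ} (hp : p.Prime)
    {g : Perm α} (hgc : g.IsCycle) (hgp : g.support.card = p) (hg : g ∈ G)
    (hk : Fintype.card α = p + k + 1) : IsMultiplyPretransitive G α (k + 2) := by
  haveI := isPretransitive_of_isCycle_mem hgc hg
  haveI : IsMultiplyPreprimitive G α (k + 2) := by
    apply hG.isMultiplyPreprimitive (s := (g.support : Set α)ᶜ)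
    · rw [← Finset.coe_compl, Set.ncard_coe_finset, Finset.card_compl, hgp]; omega
    · rw [Nat.card_eq_fintype_card]; have := hp.two_le; omega
    apply IsPreprimitive.of_prime_card
    have : Nat.card ↥(SubMulAction.ofFixingSubgroup G ((g.support : Set α)ᶜ)) = p := by
      rw [← hgp, ← Nat.card_eq_finsetCard]
      apply Nat.card_congr
      refine Equiv.subtypeEquivRight (fun x => ?_)
      simp [SubMulAction.mem_ofFixingSubgroup_iff]
    rw [this]; exact hp
  exact IsMultiplyPreprimitive.isMultiplyPretransitive ..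

theorem exists_map_triple (h : IsMultiplyPretransitive G α 3) {a b c a' b' c' : α} (hab : a ≠ b)
    (hac : a ≠ c) (hbc : b ≠ c) (hab' : a' ≠ b') (hac' : a' ≠ c') (hbc' : b' ≠ c') :
    ∃ g ∈ G, g a = a' ∧ g b = b' ∧ g c = c' := by
  have inj : ∀ {u v w : α}, u ≠ v → u ≠ w → v ≠ w → Function.Injective ![u, v, w] := by
    intro u v w h1 h2 h3 i j hij
    fin_cases i <;> fin_cases j <;> simp_all [eq_comm]
  haveI : IsPretransitive G (Fin 3 ↪ α) := h
  obtain ⟨⟨g, hg⟩, hge⟩ := exists_smul_eq G (⟨![a, b, c], inj hab hac hbc⟩ : Fin 3 ↪ α)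
    ⟨![a', b', c'], inj hab' hac' hbc'⟩
  refine ⟨g, hg, ?_, ?_, ?_⟩
  · simpa using! DFunLike.congr_fun hge 0
  · simpa using! DFunLike.congr_fun hge 1
  · simpa using! DFunLike.congr_fun hge 2

/-- Small index subgroups of the alternating group. -/
theorem eq_alternating_or_dvd_factorial (h5 : 5 ≤ Fintype.card α) (hle : G ≤ alternatingGroup α)
    {k : ℕ} (hk : Nat.card G * k = Nat.card (alternatingGroup α)) :
    G = alternatingGroup α ∨ Nat.card (alternatingGroup α) ∣ k.factorial := by
  haveI : IsSimpleGroup (alternatingGroup α) :=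
    alternatingGroup.isSimpleGroup (by rwa [Nat.card_eq_fintype_card])
  set H := G.subgroupOf (alternatingGroup α) with hH
  have hcard : Nat.card H = Nat.card G := Nat.card_congr (Subgroup.subgroupOfEquivOfLe hle).toEquiv
  have hidx : H.index = k := by
    have := H.card_mul_index
    rw [hcard, ← hk] at this
    exact Nat.eq_of_mul_eq_mul_left Nat.card_pos this
  rcases (H.normalCore_normal).eq_bot_or_eq_top with h | h
  · right
    rw [H.normalCore_eq_ker, MonoidHom.ker_eq_bot_iff] at h
    have := Subgroup.card_dvd_of_injective _ h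
    rwa [Nat.card_perm, ← Subgroup.index_eq_card, hidx] at this
  · left
    have h' : H = ⊤ := top_le_iff.mp (h ▸ H.normalCore_le)
    exact le_antisymm hle (Subgroup.subgroupOf_eq_top.mp h')

theorem card_alternating_seven (h : Fintype.card α = 7) : Nat.card (alternatingGroup α) = 2520 := by
  haveI : Nontrivial α := Fintype.one_lt_card_iff_nontrivial.mp (by omega)
  rw [nat_card_alternatingGroup, Nat.card_eq_fintype_card, h]; rfl

theorem card_alternating_six (h : Fintype.card α = 6) : Nat.card (alternatingGroup α) = 360 := by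
  haveI : Nontrivial α := Fintype.one_lt_card_iff_nontrivial.mp (by omega)
  rw [nat_card_alternatingGroup, Nat.card_eq_fintype_card, h]; rfl

theorem false_of_self_normalizing {p : ℕ} (hp : p.Prime) (hp5 : 5 ≤ p) (h6 : 6 ∣ p + 1)
    (hd : Fintype.card α = p + 2) (h3 : IsMultiplyPretransitive G α 3) {x : Perm α}
    (hxc : x.IsCycle) (hxp : x.support.card = p) (hxG : x ∈ G) {a b : α} (hab : a ≠ b)
    (hxa : x a = a) (hxb : x b = b)
    (hN : ∀ g ∈ G, g a = a → g b = b → (∃ j : ℤ, g * x * g⁻¹ = x ^ j) → g ∈ Subgroup.zpowers x) :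
    False := by
  classical
  have hmem : ∀ c, c ∈ x.support ↔ c ≠ a ∧ c ≠ b := by
    have hF : x.supportᶜ = {a, b} := by
      symm
      apply Finset.eq_of_subset_of_card_le
      · intro c hc
        simp only [Finset.mem_insert, Finset.mem_singleton] at hc
        rcases hc with rfl | rfl <;> simp [hxa, hxb]
      · rw [Finset.card_compl, hxp, Finset.card_pair hab]; omega
    intro c
    have : c ∈ x.supportᶜ ↔ c = a ∨ c = b := by rw [hF]; simp
    rw [Finset.mem_compl] at this
    tauto
  have hxord : orderOf x = p := by rw [hxc.orderOf, hxp]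
  have hmem2 : ∀ g, g ∈ fixIn (fixIn G a) b ↔ g ∈ G ∧ g a = a ∧ g b = b := fun g => by
    rw [mem_fixIn, mem_fixIn, and_assoc]
  have hR : Nat.card (fixIn (fixIn G a) b) = p := by
    refine card_eq_of_self_normalizing (S := x.support) hp hxp ?_ hxord
      ((hmem2 x).mpr ⟨hxG, hxa, hxb⟩) ?_ ?_
    · intro g hg c hc
      obtain ⟨-, h1, h2⟩ := (hmem2 g).mp hg
      rw [hmem] at hc
      by_cases h : c = a
      · subst h; exact h1
      · have : c = b := by tauto
        subst this; exact h2
    · intro u hu v hv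
      obtain ⟨i, hi⟩ := hxc.sameCycle (Perm.mem_support.mp hu) (Perm.mem_support.mp hv)
      exact ⟨x ^ i, (hmem2 _).mpr ⟨G.zpow_mem hxG i,
        Perm.zpow_apply_eq_self_of_apply_eq_self hxa i,
        Perm.zpow_apply_eq_self_of_apply_eq_self hxb i⟩, hi⟩
    · intro g hg
      obtain ⟨h0, h1, h2⟩ := (hmem2 g).mp hg
      exact hN g h0 h1 h2
  refine false_of_sharp (H := fixIn G a) (S := Finset.univ.erase a) hp hp5 h6 ?_ ?_ hxord
    (mem_fixIn.mpr ⟨hxG, hxa⟩) (b := b) ?_ hxb ?_ ?_ hR
  · rw [Finset.card_erase_of_mem (Finset.mem_univ a), Finset.card_univ, hd]; omega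
  · intro g hg c hc
    obtain ⟨-, h1⟩ := mem_fixIn.mp hg
    have : c = a := by simpa using hc
    rw [this, h1]
  · simp [Ne.symm hab]
  · intro c hc hcb h
    have : c ∈ x.support := (hmem c).mpr ⟨(Finset.mem_erase.mp hc).1, hcb⟩
    exact Perm.mem_support.mp this h
  · intro c hc
    by_cases hcb : c = b
    · exact ⟨1, Subgroup.one_mem _, by simp [hcb]⟩
    obtain ⟨u, -, v, -, huv⟩ : ∃ u, u ∈ x.support ∧ ∃ v, v ∈ x.support ∧ u ≠ v := by
      obtain ⟨u, hu, v, hv, h⟩ := Finset.one_lt_card.mp (show 1 < x.support.card by omega)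
      exact ⟨u, hu, v, hv, h⟩
    obtain ⟨w, hwa, hwb, hwc⟩ : ∃ w, w ≠ a ∧ w ≠ b ∧ w ≠ c := by
      by_contra h
      push Not at h
      have : x.support ⊆ {c} := fun w hw => by
        obtain ⟨h1, h2⟩ := (hmem w).mp hw
        simp [h w h1 h2]
      have := Finset.card_le_card this
      rw [Finset.card_singleton] at this; omega
    have hca : c ≠ a := (Finset.mem_erase.mp hc).1
    obtain ⟨g, hg, h1, h2, -⟩ := exists_map_triple h3 hab (Ne.symm hwa) (Ne.symm hwb)
      (a' := a) (b' := c) (c' := b) (Ne.symm hca) hab hcb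
    exact ⟨g, mem_fixIn.mpr ⟨hg, h1⟩, h2⟩

theorem exists_fixed_pair {x : Perm α} {p : ℕ} (hxp : x.support.card = p)
    (hd : Fintype.card α = p + 2) : ∃ a b, a ≠ b ∧ x a = a ∧ x b = b := by
  obtain ⟨a, b, hab, hF⟩ := Finset.card_eq_two.mp
    (show (x.supportᶜ).card = 2 by rw [Finset.card_compl, hxp, hd]; omega)
  refine ⟨a, b, hab, ?_, ?_⟩
  · have : a ∈ x.supportᶜ := by rw [hF]; simp
    simpa using this
  · have : b ∈ x.supportᶜ := by rw [hF]; simp
    simpa using this

/-- Conjugating iterates. -/
theorem pow_conj_eq {x g : Perm α} {j : ℤ} (h : g * x * g⁻¹ = x ^ j) (n : ℕ) :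
    g ^ n * x * (g ^ n)⁻¹ = x ^ (j ^ n) := by
  induction n with
  | zero => simp
  | succ n ih =>
    calc g ^ (n + 1) * x * (g ^ (n + 1))⁻¹ = g * (g ^ n * x * (g ^ n)⁻¹) * g⁻¹ := by
          rw [pow_succ']; group
      _ = (g * x * g⁻¹) ^ (j ^ n) := by rw [ih, conj_zpow]
      _ = x ^ (j ^ (n + 1)) := by rw [h, ← zpow_mul, pow_succ']

/-- The `(p - 1)`-th power of a normalising element centralises. -/
theorem commute_pow_sub_one {p : ℕ} (hp : p.Prime) {x g : Perm α} (hx : orderOf x = p) {j : ℤ}
    (h : g * x * g⁻¹ = x ^ j) : Commute (g ^ (p - 1)) x := by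
  haveI := Fact.mk hp
  have hj : IsCoprime j p := by
    rw [Int.isCoprime_iff_gcd_eq_one, Int.gcd_comm]
    rcases hp.eq_one_or_self_of_dvd _ (Int.natCast_dvd_natCast.mp (Int.gcd_dvd_left (p : ℤ) j)) with h1 | h1
    · exact h1
    · exfalso
      have h2 : (p : ℤ) ∣ j := h1 ▸ Int.gcd_dvd_right (p : ℤ) j
      have h3 : x ^ j = 1 := orderOf_dvd_iff_zpow_eq_one.mp (by rw [hx]; exact h2)
      rw [h3, mul_inv_eq_one, mul_eq_left] at h
      rw [h, orderOf_one] at hx
      exact hp.ne_one hx.symm
  have hmod := Int.ModEq.pow_card_sub_one_eq_one hp hj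
  have h2 : x ^ (j ^ (p - 1)) = x := by
    conv_rhs => rw [← zpow_one x]
    rw [zpow_eq_zpow_iff_modEq, hx]; exact hmod
  have h3 := pow_conj_eq h (p - 1)
  rw [h2] at h3
  calc g ^ (p - 1) * x = g ^ (p - 1) * x * (g ^ (p - 1))⁻¹ * g ^ (p - 1) := by group
    _ = x * g ^ (p - 1) := by rw [h3]

/-- A normalising element `g` with `g ^ p = 1` is a power of the `p`-cycle. -/
theorem mem_zpowers_of_pow_eq_one {p : ℕ} (hp : p.Prime) {x g : Perm α} (hxc : x.IsCycle)
    (hx : orderOf x = p) {j : ℤ} (h : g * x * g⁻¹ = x ^ j) (hgp : g ^ p = 1)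
    (hfix : ∀ z, x z = z → g z = z) : g ∈ Subgroup.zpowers x := by
  have h1 : g = (g ^ (p - 1))⁻¹ := by
    apply eq_inv_of_mul_eq_one_left
    rw [← pow_succ', Nat.sub_add_cancel hp.one_le, hgp]
  have hcomm : Commute g x := by rw [h1]; exact (commute_pow_sub_one hp hx h).inv_left
  exact mem_zpowers_of_commute hxc hcomm hfix

/-- Degree 7: a primitive group of even permutations with a 5-cycle is the alternating group. -/
theorem eq_alternating_seven (hd : Fintype.card α = 7) (hle : G ≤ alternatingGroup α)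
    (hG : IsPreprimitive G α) {x : Perm α} (hxc : x.IsCycle) (hxp : x.support.card = 5)
    (hxG : x ∈ G) : G = alternatingGroup α := by
  classical
  by_contra hne
  have h3 : IsMultiplyPretransitive G α 3 :=
    isMultiplyPretransitive_of_prime_cycle hG Nat.prime_five hxc hxp hxG (k := 1) (by omega)
  obtain ⟨a, b, hab, hxa, hxb⟩ := exists_fixed_pair hxp (by omega)
  have hF : ∀ z, x z = z → z = a ∨ z = b := by
    intro z hz
    by_contra h
    rw [not_or] at h
    have : ({a, b, z} : Finset α) ⊆ x.supportᶜ := by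
      intro w hw
      simp only [Finset.mem_insert, Finset.mem_singleton] at hw
      rcases hw with rfl | rfl | rfl <;> simpa
    have := Finset.card_le_card this
    rw [Finset.card_compl, hxp, hd, Finset.card_insert_of_notMem (by simp [hab, Ne.symm h.1]),
      Finset.card_pair (Ne.symm h.2)] at this
    omega
  refine false_of_self_normalizing Nat.prime_five (by norm_num) (by norm_num) (by omega) h3 hxc hxp
    hxG hab hxa hxb (fun g hg hga hgb ⟨j, hj⟩ => ?_)
  have hx5 : orderOf x = 5 := by rw [hxc.orderOf, hxp]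
  have hfix : ∀ n : ℕ, ∀ z, x z = z → (g ^ n) z = z := by
    intro n z hz
    rcases hF z hz with rfl | rfl
    · exact Perm.pow_apply_eq_self_of_apply_eq_self hga n
    · exact Perm.pow_apply_eq_self_of_apply_eq_self hgb n
  have h20 : g ^ 20 = 1 := by
    have := mem_zpowers_of_commute hxc (commute_pow_sub_one Nat.prime_five hx5 hj) (hfix 4)
    obtain ⟨i, hi⟩ := Subgroup.mem_zpowers_iff.mp this
    rw [show 20 = (5 - 1) * 5 by rfl, pow_mul, ← hi, ← zpow_natCast, ← zpow_mul, mul_comm, zpow_mul,
      zpow_natCast, orderOf_dvd_iff_pow_eq_one.mp hx5.dvd, one_zpow]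
  have hodd : ¬ 2 ∣ orderOf g := by
    intro h2
    -- `|G|` is divisible by `420`
    set K2 := fixIn (fixIn G a) b
    have h10 : 10 ∣ Nat.card K2 := by
      have m1 : g ∈ K2 := mem_fixIn.mpr ⟨mem_fixIn.mpr ⟨hg, hga⟩, hgb⟩
      have m2 : x ∈ K2 := mem_fixIn.mpr ⟨mem_fixIn.mpr ⟨hxG, hxa⟩, hxb⟩
      have e1 : 2 ∣ Nat.card K2 := h2.trans (Subgroup.orderOf_dvd_natCard K2 m1)
      have e2 : 5 ∣ Nat.card K2 := hx5 ▸ Subgroup.orderOf_dvd_natCard K2 m2
      exact Nat.Coprime.mul_dvd_of_dvd_of_dvd (by norm_num : Nat.Coprime 2 5) e1 e2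
    have tr : ∀ u v, ∃ k ∈ G, k u = v := fun u v => by
      haveI := hG.toIsPretransitive
      obtain ⟨⟨k, hk⟩, h⟩ := exists_smul_eq G u v
      exact ⟨k, hk, h⟩
    have c1 := card_eq_card_mul_fixIn (H := G) (S := Finset.univ) (fun _ _ _ _ => Finset.mem_univ _)
      (Finset.mem_univ a) (fun c _ => tr a c)
    have c2 := card_eq_card_mul_fixIn (H := fixIn G a) (S := Finset.univ.erase a)
      (fun k hk z hz => Finset.mem_erase.mpr ⟨fun h => (Finset.mem_erase.mp hz).1
        (k.injective (h.trans (mem_fixIn.mp hk).2.symm)), Finset.mem_univ _⟩)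
      (Finset.mem_erase.mpr ⟨Ne.symm hab, Finset.mem_univ b⟩) (fun c hc => by
        have hca := (Finset.mem_erase.mp hc).1
        obtain ⟨w, -, hw⟩ := Finset.exists_mem_notMem_of_card_lt_card (s := ({a, b, c} : Finset α)) (t := Finset.univ)
          (lt_of_le_of_lt Finset.card_le_three (by rw [Finset.card_univ, hd]; omega))
        simp only [Finset.mem_insert, Finset.mem_singleton, not_or] at hw
        by_cases hcb : c = b
        · exact ⟨1, Subgroup.one_mem _, by simp [hcb]⟩
        obtain ⟨k, hk, k1, k2, -⟩ := exists_map_triple h3 hab (Ne.symm hw.1) (Ne.symm hw.2.1)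
          (a' := a) (b' := c) (c' := b) (Ne.symm hca) hab hcb
        exact ⟨k, mem_fixIn.mpr ⟨hk, k1⟩, k2⟩)
    rw [Finset.card_univ, hd] at c1
    rw [Finset.card_erase_of_mem (Finset.mem_univ a), Finset.card_univ, hd] at c2
    have hG' : 420 ∣ Nat.card G := by
      rw [c1, c2]; obtain ⟨r, hr⟩ := h10; exact ⟨r, by rw [hr]; ring⟩
    obtain ⟨k, hk⟩ := Subgroup.card_dvd_of_le hle
    rcases eq_alternating_or_dvd_factorial (by omega) hle hk.symm with h | h
    · exact hne h
    · rw [card_alternating_seven hd] at h hk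
      obtain ⟨r, hr⟩ := hG'
      have hk6 : k ≤ 6 := by
        have : r ≠ 0 := by rintro rfl; rw [hr] at hk; simp at hk
        have : 420 * k ≤ 420 * r * k := Nat.mul_le_mul_right _ (Nat.le_mul_of_pos_right _ (by omega))
        rw [← hr, ← hk] at this; omega
      have := Nat.le_of_dvd (Nat.factorial_pos k) h
      have := Nat.factorial_le hk6
      norm_num [Nat.factorial] at this
      omega
  have h5 : orderOf g ∣ 5 := by
    have h1 : orderOf g ∣ 2 ^ 2 * 5 := orderOf_dvd_of_pow_eq_one h20
    exact (Nat.Coprime.pow_right 2 ((Nat.prime_two.coprime_iff_not_dvd.mpr hodd).symm)).dvd_of_dvd_mul_left h1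
  exact mem_zpowers_of_pow_eq_one Nat.prime_five hxc hx5 hj (orderOf_dvd_iff_pow_eq_one.mp h5)
    (fun z hz => by simpa using hfix 1 z hz)

/-- No element of order 5 fixes two points in a proper primitive group of degree 13. -/
theorem no_five_thirteen (hd : Fintype.card α = 13) (hG : IsPreprimitive G α)
    (h3 : IsMultiplyPretransitive G α 3) (hne : ¬ alternatingGroup α ≤ G) {h : Perm α} (hh : h ∈ G)
    {a b : α} (hab : a ≠ b) (ha : h a = a) (hb : h b = b) (h5 : orderOf h = 5) : False := by
  classical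
  have hp := Nat.prime_five
  haveI := Fact.mk hp
  obtain ⟨n, hn⟩ := cycleType_prime_order (σ := h) (h5 ▸ hp)
  rw [h5] at hn
  have hsum : h.support.card = (n + 1) * 5 := by
    rw [← h.sum_cycleType, hn, Multiset.sum_replicate, smul_eq_mul]
  have hsupp : h.support.card ≤ 11 := by
    have : h.support ⊆ ({a, b} : Finset α)ᶜ := by
      intro z hz
      simp only [Finset.mem_compl, Finset.mem_insert, Finset.mem_singleton, not_or]
      exact ⟨fun e => Perm.mem_support.mp hz (e ▸ ha), fun e => Perm.mem_support.mp hz (e ▸ hb)⟩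
    have := Finset.card_le_card this
    rw [Finset.card_compl, Finset.card_pair hab, hd] at this
    omega
  rcases Nat.lt_or_ge n 1 with hn1 | hn1
  · obtain rfl : n = 0 := by omega
    have hc : h.IsCycle := isCycle_of_prime_order (h5 ▸ hp) (by rw [h5, hsum]; norm_num)
    exact hne (alternatingGroup_le_of_prime_cycle hG hp (by omega) hc (by omega) hh)
  obtain rfl : n = 1 := by omega
  have hFc : (h.supportᶜ : Finset α).card = 3 := by rw [Finset.card_compl, hsum, hd]
  obtain ⟨u, v, w, huv, huw, hvw, hF⟩ := Finset.card_eq_three.mp hFc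
  have h25 : ¬ 5 ^ 2 ∣ Nat.card (suppGroup G h) := by
    intro hdvd
    have hdvd' : 5 ^ 2 ∣ Nat.card G :=
      hdvd.trans (Subgroup.card_dvd_of_le (fun σ hσ => hσ.1))
    obtain ⟨Q, hQ⟩ := Sylow.exists_subgroup_card_pow_prime 5 hdvd'
    set Q' := Q.map G.subtype with hQ'def
    have hQ' : Nat.card Q' = 5 ^ 2 := by
      rw [hQ'def, Subgroup.card_map_of_injective G.subtype_injective, hQ]
    have hfac : (Nat.card (Perm α)).factorization 5 = 2 := by
      rw [Nat.card_perm, Nat.card_eq_fintype_card, hd]
      have : (Nat.factorial 13) = 5 ^ 2 * 249080832 := by norm_num [Nat.factorial]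
      rw [this, Nat.factorization_mul (by norm_num) (by norm_num), Finsupp.add_apply,
        hp.factorization_pow, Finsupp.single_eq_same,
        Nat.factorization_eq_zero_of_not_dvd (by norm_num)]
    let P : Sylow 5 (Perm α) := Sylow.ofCard Q' (by rw [hQ', hfac])
    -- a five cycle
    obtain ⟨σ, hσ⟩ : ∃ σ : Perm α, σ.cycleType = {5} := by
      rw [Equiv.Perm.exists_with_cycleType_iff]
      refine ⟨by rw [Multiset.sum_singleton, hd]; norm_num, fun i hi => ?_⟩
      rw [Multiset.mem_singleton] at hi; omega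
    have hσc : σ.IsCycle := Perm.card_cycleType_eq_one.mp (by rw [hσ]; rfl)
    have hσ5 : σ.support.card = 5 := by rw [← σ.sum_cycleType, hσ, Multiset.sum_singleton]
    obtain ⟨P', hP'⟩ := (IsPGroup.of_card (n := 1) (p := 5) (G := Subgroup.zpowers σ)
      (by rw [Nat.card_zpowers, hσc.orderOf, hσ5, pow_one])).exists_le_sylow
    obtain ⟨k, hk⟩ := exists_smul_eq (Perm α) P' P
    have hmem : k * σ * k⁻¹ ∈ ((k • P' : Sylow 5 (Perm α)) : Subgroup (Perm α)) := by
      rw [Sylow.coe_subgroup_smul]
      exact ⟨σ, hP' (Subgroup.mem_zpowers σ), by simp [MulAut.smul_def, MulAut.conj_apply]⟩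
    rw [hk] at hmem
    have hmem' : k * σ * k⁻¹ ∈ G := Subgroup.map_subtype_le Q hmem
    refine hne (alternatingGroup_le_of_prime_cycle hG hp (by omega) (hσc.conj (g := k)) ?_ hmem')
    rw [Perm.card_support_conj, hσ5]
  have hmemF : ∀ z, h z = z ↔ z = u ∨ z = v ∨ z = w := by
    intro z
    have : z ∈ (h.supportᶜ : Finset α) ↔ z = u ∨ z = v ∨ z = w := by rw [hF]; simp
    rwa [Finset.mem_compl, Perm.notMem_support] at this
  set τ := swap u v * swap u w with hτdef
  have hτ : ∀ z, h z = z → h (τ z) = τ z := by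
    intro z hz
    rw [hmemF] at hz ⊢
    rcases hz with e | e | e <;> subst e <;>
      simp [hτdef, Perm.mul_apply, Equiv.swap_apply_def] <;> split_ifs <;> simp_all
  obtain ⟨k, hkG, hkF, j, hkj⟩ := exists_normalizing_of_not_sq_dvd hp h5 hh h25
    (by rw [hFc]; exact h3) τ hτ
  set m := k ^ 4 with hmdef
  have hcomm : Commute m h := commute_pow_sub_one hp h5 hkj
  have hmF : ∀ n : ℕ, ∀ z, h z = z → (k ^ n) z = (τ ^ n) z ∧ h ((τ ^ n) z) = (τ ^ n) z := by
    intro n z hz
    induction n with
    | zero => exact ⟨rfl, hz⟩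
    | succ n ih =>
      rw [pow_succ' k, pow_succ' τ, Perm.mul_apply k, Perm.mul_apply τ, ih.1, hkF _ ih.2]
      exact ⟨rfl, hτ _ ih.2⟩
  -- the centraliser of `h` on its support has order 50
  have hsupp' : ∀ z, z ∈ h.support ↔ h z ≠ z := fun z => Perm.mem_support
  have hinv : ∀ σ : Perm α, Commute σ h → ∀ z, z ∈ h.support ↔ σ z ∈ h.support := by
    intro σ hσ z
    rw [hsupp', hsupp']
    have : σ (h z) = h (σ z) := by
      have := Equiv.ext_iff.mp hσ z
      simpa only [Perm.mul_apply] using this
    rw [← this, σ.injective.ne_iff]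
  let hS := h.subtypePerm (p := fun z => z ∈ h.support) (fun z => (hinv h (Commute.refl h) z).symm)
  let mS := m.subtypePerm (p := fun z => z ∈ h.support) (fun z => (hinv m hcomm z).symm)
  have hcommS : mS ∈ Subgroup.centralizer ({hS} : Set (Perm _)) := by
    rw [Subgroup.mem_centralizer_singleton_iff]
    ext z
    simp only [mS, hS, Perm.mul_apply, Perm.subtypePerm_apply]
    have := Equiv.ext_iff.mp hcomm (z : α)
    simp only [Perm.mul_apply] at this
    first | exact this | exact this.symm
  have hct : hS.cycleType = Multiset.replicate 2 5 := by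
    have h1 : (Perm.ofSubtype hS).cycleType = h.cycleType := by
      congr 1
      exact Perm.ofSubtype_subtypePerm _ (fun z hz => (hsupp' z).mpr hz)
    rw [Perm.cycleType_ofSubtype] at h1
    rw [h1, hn]
  have hcard50 : Nat.card (Subgroup.centralizer ({hS} : Set (Perm _))) = 50 := by
    rw [Perm.nat_card_centralizer, hct, Fintype.card_coe, hsum]
    simp [Multiset.replicate_succ, Multiset.toFinset, Multiset.dedup_cons_of_mem,
      Multiset.count_replicate_self]
  have hm50 : mS ^ 50 = 1 := by
    have := pow_card_eq_one' (x := (⟨mS, hcommS⟩ : Subgroup.centralizer ({hS} : Set (Perm _))))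
    rw [hcard50] at this
    exact congrArg Subtype.val this
  have hfinal : m ^ 50 = τ ^ (4 * 50) := by
    ext z
    by_cases hz : h z = z
    · rw [hmdef, ← pow_mul]; exact (hmF _ z hz).1
    · have h1 := congrArg Subtype.val (Equiv.ext_iff.mp hm50 ⟨z, (hsupp' z).mpr hz⟩)
      simp only [mS, Perm.subtypePerm_pow, Perm.subtypePerm_apply, Perm.one_apply] at h1
      rw [h1]
      symm
      apply Perm.pow_apply_eq_self_of_apply_eq_self
      have hu : z ≠ u := fun e => hz ((hmemF z).mpr (Or.inl e))
      have hv : z ≠ v := fun e => hz ((hmemF z).mpr (Or.inr (Or.inl e)))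
      have hw : z ≠ w := fun e => hz ((hmemF z).mpr (Or.inr (Or.inr e)))
      simp [hτdef, swap_apply_of_ne_of_ne hu hv, swap_apply_of_ne_of_ne hu hw]
  have h3c : (τ ^ (4 * 50)).IsThreeCycle := by
    have ht : τ.IsThreeCycle := isThreeCycle_swap_mul_swap_same huv huw hvw
    have : τ ^ (4 * 50) = τ * τ := by
      rw [show 4 * 50 = 3 * 66 + 2 by rfl, pow_add, pow_mul, ← ht.orderOf, pow_orderOf_eq_one,
        one_pow, one_mul, pow_two]
    rw [this]; exact ht.isThreeCycle_sq
  exact hne (alternatingGroup_le_of_isPreprimitive_of_isThreeCycle_mem hG h3c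
    (hfinal ▸ G.pow_mem (G.pow_mem hkG 4) 50))

/-- Degree 13: a primitive group of even permutations with an 11-cycle is the alternating group. -/
theorem eq_alternating_thirteen (hd : Fintype.card α = 13) (hle : G ≤ alternatingGroup α)
    (hG : IsPreprimitive G α) {x : Perm α} (hxc : x.IsCycle) (hxp : x.support.card = 11)
    (hxG : x ∈ G) : G = alternatingGroup α := by
  classical
  by_contra hne
  have hne' : ¬ alternatingGroup α ≤ G := fun h => hne (le_antisymm hle h)
  have hp : Nat.Prime 11 := by norm_num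
  haveI := Fact.mk hp
  have h3 : IsMultiplyPretransitive G α 3 :=
    isMultiplyPretransitive_of_prime_cycle hG hp hxc hxp hxG (k := 1) (by omega)
  obtain ⟨a, b, hab, hxa, hxb⟩ := exists_fixed_pair hxp (by omega)
  have hFeq : x.supportᶜ = {a, b} := by
    symm
    apply Finset.eq_of_subset_of_card_le
    · intro c hc
      simp only [Finset.mem_insert, Finset.mem_singleton] at hc
      rcases hc with rfl | rfl <;> simp [hxa, hxb]
    · rw [Finset.card_compl, hxp, Finset.card_pair hab]; omega
  have hF : ∀ z, x z = z → z = a ∨ z = b := by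
    intro z hz
    have : z ∈ x.supportᶜ := by simp [hz]
    rw [hFeq] at this; simpa using this
  refine false_of_self_normalizing hp (by norm_num) (by norm_num) (by omega) h3 hxc hxp
    hxG hab hxa hxb (fun g hg hga hgb ⟨j, hj⟩ => ?_)
  have hx11 : orderOf x = 11 := by rw [hxc.orderOf, hxp]
  have hfix : ∀ n : ℕ, ∀ z, x z = z → (g ^ n) z = z := by
    intro n z hz
    rcases hF z hz with rfl | rfl
    · exact Perm.pow_apply_eq_self_of_apply_eq_self hga n
    · exact Perm.pow_apply_eq_self_of_apply_eq_self hgb n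
  have h110 : g ^ 110 = 1 := by
    have := mem_zpowers_of_commute hxc (commute_pow_sub_one hp hx11 hj) (hfix 10)
    obtain ⟨i, hi⟩ := Subgroup.mem_zpowers_iff.mp this
    rw [show 110 = (11 - 1) * 11 by rfl, pow_mul, ← hi, ← zpow_natCast, ← zpow_mul, mul_comm, zpow_mul,
      zpow_natCast, orderOf_dvd_iff_pow_eq_one.mp hx11.dvd, one_zpow]
  have h22 : g ^ 22 = 1 := by
    by_contra h
    refine no_five_thirteen hd hG h3 hne' (G.pow_mem hg 22) hab
      (Perm.pow_apply_eq_self_of_apply_eq_self hga 22)
      (Perm.pow_apply_eq_self_of_apply_eq_self hgb 22) ?_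
    haveI := Fact.mk Nat.prime_five
    exact orderOf_eq_prime (by rw [← pow_mul]; exact h110) h
  set t := g ^ 11 with htdef
  have ht2 : t * t = 1 := by rw [htdef, ← pow_add]; exact h22
  have ht1 : t = 1 := by
    by_contra ht
    have hjt : t * x * t⁻¹ = x ^ (j ^ 11) := pow_conj_eq hj 11
    set k := j ^ 11 with hk
    have hkk : ((k : ZMod 11)) ^ 2 = 1 := by
      have h1 := pow_conj_eq hjt 2
      rw [pow_two t, ht2] at h1
      simp only [one_mul, inv_one, mul_one] at h1
      have h2 : x ^ (k ^ 2) = x ^ (1 : ℤ) := by rw [zpow_one]; exact h1.symm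
      rw [zpow_eq_zpow_iff_modEq, hx11, ← ZMod.intCast_eq_intCast_iff] at h2
      push_cast at h2; exact h2
    have hor : (k : ZMod 11) = 1 ∨ (k : ZMod 11) = -1 := by
      rwa [sq_eq_one_iff] at hkk
    have hxk : ∀ e : ℤ, (k : ZMod 11) = (e : ZMod 11) → t * x * t⁻¹ = x ^ e := by
      intro e he
      rw [hjt, zpow_eq_zpow_iff_modEq, hx11, ← ZMod.intCast_eq_intCast_iff]; exact he
    have htfix : ∀ z, x z = z → t z = z := hfix 11
    rcases hor with h | h
    · have hc : Commute t x := by
        have := hxk 1 (by simpa using h)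
        rw [zpow_one] at this
        calc t * x = t * x * t⁻¹ * t := by group
          _ = x * t := by rw [this]
      obtain ⟨i, hi⟩ := Subgroup.mem_zpowers_iff.mp (mem_zpowers_of_commute hxc hc htfix)
      apply ht
      have h1 : t ^ 11 = 1 := by
        rw [← hi, ← zpow_natCast, ← zpow_mul, mul_comm, zpow_mul, zpow_natCast,
          orderOf_dvd_iff_pow_eq_one.mp hx11.dvd, one_zpow]
      calc t = t ^ 11 := by
            rw [show 11 = 2 * 5 + 1 by rfl, pow_succ, pow_mul, pow_two, ht2, one_pow, one_mul]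
        _ = 1 := h1
    · have hinv := hxk (-1) (by simpa using h)
      have hrev : ∀ i : ℤ, ∀ z, t ((x ^ i) z) = (x ^ (-i)) (t z) := by
        intro i z
        have : t * x ^ i = x ^ (-i) * t := by
          calc t * x ^ i = (t * x ^ i * t⁻¹) * t := by group
            _ = (t * x * t⁻¹) ^ i * t := by rw [conj_zpow]
            _ = x ^ (-i) * t := by rw [hinv, ← zpow_mul, neg_one_mul]
        rw [← Perm.mul_apply, this, Perm.mul_apply]
      obtain ⟨o, ho, -⟩ := id hxc
      have hto : x (t o) ≠ t o := by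
        intro e
        have := htfix _ e
        exact ho (by rw [← t.injective this]; exact e)
      obtain ⟨c, hc⟩ := hxc.sameCycle ho hto
      have hpar : ∀ i : ℤ, t ((x ^ i) o) = (x ^ i) o ↔ ((i : ZMod 11)) = 6 * (c : ZMod 11) := by
        intro i
        rw [hrev, ← hc, ← Perm.mul_apply, ← zpow_add]
        have hinjo : ∀ m n : ℤ, (x ^ m) o = (x ^ n) o → x ^ m = x ^ n := by
          intro m n e
          have e' : (x ^ (m - n)) o = o := by
            rw [show m - n = -n + m by ring, zpow_add, Perm.mul_apply, e, ← Perm.mul_apply,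
              ← zpow_add, neg_add_cancel, zpow_zero, Perm.one_apply]
          have : x ^ (m - n) = 1 := by
            refine Equiv.ext fun z => ?_
            rw [Perm.one_apply]
            by_cases hz : x z = z
            · exact Perm.zpow_apply_eq_self_of_apply_eq_self hz _
            · obtain ⟨l, rfl⟩ := Perm.IsCycle.sameCycle hxc ho hz
              rw [← Perm.mul_apply, ← zpow_add, add_comm, zpow_add, Perm.mul_apply, e']
          rw [zpow_sub, mul_inv_eq_one] at this; exact this
        constructor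
        · intro e
          have := hinjo _ _ e
          rw [zpow_eq_zpow_iff_modEq, hx11, ← ZMod.intCast_eq_intCast_iff] at this
          push_cast at this
          have h2 : (c : ZMod 11) = 2 * (i : ZMod 11) := by linear_combination this
          rw [h2, ← mul_assoc, show (6 : ZMod 11) * 2 = 1 from rfl, one_mul]
        · intro e
          have : x ^ (-i + c) = x ^ i := by
            rw [zpow_eq_zpow_iff_modEq, hx11, ← ZMod.intCast_eq_intCast_iff]
            push_cast
            rw [e]
            have h12 : (12 : ZMod 11) = 1 := rfl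
            linear_combination (-(c : ZMod 11)) * h12
          rw [this]
      set z0 := (x ^ (6 * c)) o with hz0
      have hsupp : t.support = x.support.erase z0 := by
        ext z
        rw [Finset.mem_erase, Perm.mem_support, Perm.mem_support]
        constructor
        · intro hz
          refine ⟨fun e => hz ?_, fun e => hz (htfix z e)⟩
          rw [e, hz0, hpar]; push_cast; rfl
        · rintro ⟨hz1, hz2⟩ e
          obtain ⟨i, hi⟩ := hxc.sameCycle ho hz2
          rw [← hi, hpar] at e
          apply hz1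
          rw [← hi, hz0]
          congr 1
          rw [zpow_eq_zpow_iff_modEq, hx11, ← ZMod.intCast_eq_intCast_iff]
          push_cast; exact e
      haveI := Fact.mk Nat.prime_two
      have hord : orderOf t = 2 := orderOf_eq_prime (by rw [pow_two]; exact ht2) ht
      obtain ⟨n, hn⟩ := cycleType_prime_order (σ := t) (hord ▸ Nat.prime_two)
      rw [hord] at hn
      have hz0mem : z0 ∈ x.support := by
        rw [hz0, Perm.zpow_apply_mem_support]; exact Perm.mem_support.mpr ho
      have hs := t.sum_cycleType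
      rw [hn, Multiset.sum_replicate, smul_eq_mul, hsupp, Finset.card_erase_of_mem hz0mem, hxp] at hs
      obtain rfl : n = 4 := by omega
      have hsign : Perm.sign t = 1 := hle (G.pow_mem hg 11)
      rw [Perm.sign_of_cycleType, hn] at hsign
      simp at hsign
      exact absurd hsign (by decide)
  exact mem_zpowers_of_pow_eq_one hp hxc hx11 hj ht1 (fun z hz => by simpa using hfix 1 z hz)

/-- Degree 6: a transitive group of even permutations with a 5-cycle is `A₅` or `A₆`. -/
theorem iso_of_six (hd : Fintype.card α = 6) (hle : G ≤ alternatingGroup α)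
    (htr : IsPretransitive G α) {y : Perm α} (hyc : y.IsCycle) (hyp : y.support.card = 5)
    (hyG : y ∈ G) :
    Nonempty (G ≃* alternatingGroup (Fin 5)) ∨ Nonempty (G ≃* alternatingGroup (Fin 6)) := by
  classical
  obtain ⟨b, hb⟩ := Finset.card_eq_one.mp
    (show (y.supportᶜ).card = 1 by rw [Finset.card_compl, hyp, hd])
  have hyb : y b = b := by
    have : b ∈ y.supportᶜ := by rw [hb]; simp
    simpa using this
  have tr : ∀ c, ∃ g ∈ G, g b = c := fun c => by
    obtain ⟨⟨k, hk⟩, h⟩ := exists_smul_eq G b c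
    exact ⟨k, hk, h⟩
  have c1 := card_eq_card_mul_fixIn (H := G) (S := Finset.univ) (fun _ _ _ _ => Finset.mem_univ _)
    (Finset.mem_univ b) (fun c _ => tr c)
  rw [Finset.card_univ, hd] at c1
  have hy5 : orderOf y = 5 := by rw [hyc.orderOf, hyp]
  have h5 : 5 ∣ Nat.card (fixIn G b) :=
    hy5 ▸ Subgroup.orderOf_dvd_natCard _ (mem_fixIn.mpr ⟨hyG, hyb⟩)
  obtain ⟨r, hr⟩ := h5
  have hr1 : r ≠ 1 := by
    rintro rfl
    refine false_of_sharp (H := G) (S := Finset.univ) Nat.prime_five le_rfl (by norm_num)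
      (by rw [Finset.card_univ, hd]) (fun g _ c hc => absurd (Finset.mem_univ c) hc) hy5 hyG
      (Finset.mem_univ b) hyb (fun c _ hcb h => hcb ?_) (fun c _ => tr c) (by rw [hr])
    have : c ∈ y.supportᶜ := by simp [h]
    rw [hb] at this; simpa using this
  obtain ⟨k, hk⟩ := Subgroup.card_dvd_of_le hle
  rcases eq_alternating_or_dvd_factorial (by omega) hle hk.symm with h | h
  · subst h
    exact Or.inr ⟨(Fintype.equivFinOfCardEq hd).altCongrHom⟩
  left
  rw [card_alternating_six hd] at h hk
  have hk6 : 6 ≤ k := by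
    by_contra hc
    have := Nat.le_of_dvd (Nat.factorial_pos k) h
    have := Nat.factorial_le (show k ≤ 5 by omega)
    norm_num [Nat.factorial] at this
    omega
  have hGc : Nat.card G = 60 ∧ k = 6 := by
    have hr0 : r ≠ 0 := by rintro rfl; rw [c1, hr] at hk; simp at hk
    rw [c1, hr] at hk
    have h2 : 6 * (5 * r) * 6 ≤ 6 * (5 * r) * k := Nat.mul_le_mul_left _ hk6
    have h3 : r = 2 := by omega
    subst h3
    refine ⟨by rw [c1, hr], by omega⟩
  obtain ⟨hGc, rfl⟩ := hGc
  -- the coset action
  haveI : IsSimpleGroup (alternatingGroup α) :=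
    alternatingGroup.isSimpleGroup (by rw [Nat.card_eq_fintype_card]; omega)
  set H := G.subgroupOf (alternatingGroup α) with hHdef
  haveI : Fintype (alternatingGroup α ⧸ H) := Fintype.ofFinite _
  have hHcard : Nat.card H = 60 := by
    rw [Nat.card_congr (Subgroup.subgroupOfEquivOfLe hle).toEquiv, hGc]
  have hQ : Fintype.card (alternatingGroup α ⧸ H) = 6 := by
    rw [← Nat.card_eq_fintype_card]
    have := H.card_eq_card_quotient_mul_card_subgroup
    rw [card_alternating_six hd, hHcard] at this
    omega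
  let φ := MulAction.toPermHom (alternatingGroup α) (alternatingGroup α ⧸ H)
  have hφ : Function.Injective φ := by
    rw [← MonoidHom.ker_eq_bot_iff, ← Subgroup.normalCore_eq_ker]
    rcases (H.normalCore_normal).eq_bot_or_eq_top with h' | h'
    · exact h'
    · exfalso
      have : H = ⊤ := top_le_iff.mp (h' ▸ H.normalCore_le)
      rw [this, Subgroup.card_top, card_alternating_six hd] at hHcard
      omega
  have hsign : ∀ a, Perm.sign (φ a) = 1 := by
    rcases ((Perm.sign.comp φ).normal_ker).eq_bot_or_eq_top with h' | h'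
    · exfalso
      have := Nat.card_le_card_of_injective _ ((MonoidHom.ker_eq_bot_iff _).mp h')
      rw [card_alternating_six hd, Nat.card_eq_fintype_card, Fintype.card_units_int] at this
      omega
    · intro a
      have : a ∈ (Perm.sign.comp φ).ker := h' ▸ Subgroup.mem_top a
      exact this
  set q0 : alternatingGroup α ⧸ H := ((1 : alternatingGroup α) : alternatingGroup α ⧸ H) with hq0
  have hfix0 : ∀ g : H, φ (g : alternatingGroup α) q0 = q0 := by
    intro g
    show (g : alternatingGroup α) • q0 = q0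
    rw [hq0, MulAction.Quotient.smul_coe, smul_eq_mul, mul_one, QuotientGroup.eq, mul_one]
    exact H.inv_mem g.2
  have hpres : ∀ g : H, ∀ q, φ (g : alternatingGroup α) q ≠ q0 ↔ q ≠ q0 := by
    intro g q
    conv_lhs => rw [← hfix0 g]
    exact (φ (g : alternatingGroup α)).injective.ne_iff
  have hsub : ∀ g : H, (φ (g : alternatingGroup α)).subtypePerm (hpres g) ∈
      alternatingGroup {q : alternatingGroup α ⧸ H // q ≠ q0} := by
    intro g
    rw [Perm.mem_alternatingGroup]
    exact (Perm.sign_subtypePerm _ (hpres g) (by intro q hq e; exact hq (by rw [e]; exact hfix0 g))).trans (hsign _)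
  let ψ : H →* alternatingGroup {q : alternatingGroup α ⧸ H // q ≠ q0} :=
    { toFun := fun g => ⟨_, hsub g⟩
      map_one' := by apply Subtype.ext; ext q; simp
      map_mul' := fun g g' => by apply Subtype.ext; refine Equiv.ext fun q => Subtype.ext ?_; exact Equiv.ext_iff.mp (map_mul φ (g : alternatingGroup α) g') q }
  have hψinj : Function.Injective ψ := by
    intro g g' e
    apply Subtype.ext
    apply hφ
    ext q
    by_cases hq : q = q0
    · rw [hq, hfix0, hfix0]
    · exact congrArg Subtype.val (Equiv.ext_iff.mp (congrArg Subtype.val e) ⟨q, hq⟩)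
  have h5' : Fintype.card {q : alternatingGroup α ⧸ H // q ≠ q0} = 5 := by
    rw [Fintype.card_subtype_compl, Fintype.card_subtype_eq, hQ]
  have hψbij : Function.Bijective ψ := by
    rw [Nat.bijective_iff_injective_and_card]
    refine ⟨hψinj, ?_⟩
    haveI : Nontrivial {q : alternatingGroup α ⧸ H // q ≠ q0} :=
      Fintype.one_lt_card_iff_nontrivial.mp (by omega)
    rw [hHcard, nat_card_alternatingGroup, Nat.card_eq_fintype_card, h5']; rfl
  exact ⟨(Subgroup.subgroupOfEquivOfLe hle).symm.trans ((MulEquiv.ofBijective ψ hψbij).trans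
    (Fintype.equivFinOfCardEq h5').altCongrHom)⟩

/-- The core statement. -/
theorem core {x y : Perm α} {p q : ℕ} (hp : p.Prime) (hq : q.Prime) (hx : orderOf x = p)
    (hxs : Perm.sign x = 1) (hys : Perm.sign y = 1) (hy : y.IsCycle) (hyq : y.support.card = q)
    (hd : Fintype.card α < 2 * q) (hpq : Fintype.card α < p + q)
    (hmove : ∀ a, x a = a → y a ≠ a)
    (hcase : (p = 3 ∧ x.IsCycle) ∨ (x.IsCycle ∧ p + 3 ≤ q) ∨ q + 3 ≤ Fintype.card α ∨
      (p = 5 ∧ q = 7 ∧ x.IsCycle) ∨ (p = 11 ∧ q = 13 ∧ x.IsCycle) ∨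
      (q = 5 ∧ Fintype.card α = 6)) :
    ∃ d, 5 ≤ d ∧ Nonempty (Subgroup.closure ({x, y} : Set (Perm α)) ≃* alternatingGroup (Fin d)) ∨
      Fintype.card α < 5 := by
  classical
  rcases Nat.lt_or_ge (Fintype.card α) 5 with hd5 | hd5
  · exact ⟨0, Or.inr hd5⟩
  set G := Subgroup.closure ({x, y} : Set (Perm α)) with hG
  have hxG : x ∈ G := Subgroup.subset_closure (by simp)
  have hyG : y ∈ G := Subgroup.subset_closure (by simp)
  have hyd0 := y.support.card_le_univ
  rw [hyq] at hyd0
  have htr : IsPretransitive G α := by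
    apply isPretransitive_closure hy
    intro a
    by_contra h
    push Not at h
    by_cases hxa : x a = a
    · exact hmove a hxa (by simpa using h 0)
    · let S : Finset α := Finset.univ.filter (fun z => ∀ n : ℕ, y ((x ^ n) z) = (x ^ n) z)
      have hS : ∀ z ∈ S, x z ∈ S := by
        intro z hz
        simp only [S, Finset.mem_filter, Finset.mem_univ, true_and] at hz ⊢
        intro n
        rw [← Perm.mul_apply (x ^ n), ← pow_succ]; exact hz (n + 1)
      have hle := card_le_of_moves hp (hx ▸ pow_orderOf_eq_one x) hS (a := a) (by simp [S]; exact h) hxa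
      have hsub : S ⊆ y.supportᶜ := by
        intro z hz
        simp only [S, Finset.mem_filter, Finset.mem_univ, true_and] at hz
        simpa using hz 0
      have := Finset.card_le_card hsub
      rw [Finset.card_compl, hyq] at this
      omega
  have hprim : IsPreprimitive G α := isPreprimitive_of_prime_cycle htr hq hy hyq hyG hd
  have hle : G ≤ alternatingGroup α := by
    rw [hG, Subgroup.closure_le]
    intro z hz
    rcases hz with rfl | rfl
    · exact hxs
    · exact hys
  have done : G = alternatingGroup α →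
      ∃ d, 5 ≤ d ∧ Nonempty (G ≃* alternatingGroup (Fin d)) ∨ Fintype.card α < 5 := by
    intro h
    exact ⟨Fintype.card α, Or.inl ⟨hd5, ⟨(MulEquiv.subgroupCongr h).trans
      (Fintype.equivFin α).altCongrHom⟩⟩⟩
  have hyd : q ≤ Fintype.card α := hyq ▸ y.support.card_le_univ
  have hxcard : x.IsCycle → x.support.card = p := fun h => by rw [← h.orderOf, hx]
  rcases hcase with ⟨rfl, hxc⟩ | ⟨hxc, h3⟩ | h3 | ⟨rfl, rfl, hxc⟩ | ⟨rfl, rfl, hxc⟩ | ⟨rfl, h6⟩
  · exact done (le_antisymm hle (alternatingGroup_le_of_isPreprimitive_of_isThreeCycle_mem hprim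
      (card_support_eq_three_iff.mp (hxcard hxc)) hxG))
  · exact done (le_antisymm hle (alternatingGroup_le_of_prime_cycle hprim hp (by omega) hxc
      (hxcard hxc) hxG))
  · exact done (le_antisymm hle (alternatingGroup_le_of_prime_cycle hprim hq h3 hy hyq hyG))
  · rcases Nat.lt_or_ge 7 (Fintype.card α) with h | h
    · exact done (le_antisymm hle (alternatingGroup_le_of_prime_cycle hprim hp (by omega) hxc
        (hxcard hxc) hxG))
    · exact done (eq_alternating_seven (by omega) hle hprim hxc (hxcard hxc) hxG)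
  · rcases Nat.lt_or_ge 13 (Fintype.card α) with h | h
    · exact done (le_antisymm hle (alternatingGroup_le_of_prime_cycle hprim hp (by omega) hxc
        (hxcard hxc) hxG))
    · exact done (eq_alternating_thirteen (by omega) hle hprim hxc (hxcard hxc) hxG)
  · rcases iso_of_six h6 hle htr hy hyq hyG with h | h
    · exact ⟨5, Or.inl ⟨le_rfl, h⟩⟩
    · exact ⟨6, Or.inl ⟨by norm_num, h⟩⟩

end CfsgLib.TwoPrimeCycles
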